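import Groth.Prelude.Def_Omega3
import Groth.Agent.KFlatLib.Scheme.Exact
import Groth.Agent.Nrm6.PMod

/-!
# The exact sequence of differentials of a composite
-/

set_option autoImplicit false

universe u

open CategoryTheory CategoryTheory.Limits AlgebraicGeometry TopologicalSpace Opposite

namespace Groth.Agent.PPSheaf

theorem pullbackId_hom_pullSect {X : Scheme.{u}} (M : X.Modules) (U : X.Opens) (m : Γ(M, U)) :
    ((Scheme.Modules.pullbackId X).hom.app M).app U (OmegaSh.pullSect (𝟙 X) M U m) = m := by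
  have h := congrArg (fun k => Scheme.Modules.Hom.app (NatTrans.app k M) U)
    (Scheme.Modules.conjugateEquiv_pullbackId_hom X)
  simp only [conjugateEquiv_apply_app] at h
  have h2 := congr($h m)
  exact h2

theorem pullbackId_inv_app {X : Scheme.{u}} (M : X.Modules) (U : X.Opens) (m : Γ(M, U)) :
    ((Scheme.Modules.pullbackId X).inv.app M).app U m = OmegaSh.pullSect (𝟙 X) M U m := by
  conv_lhs => rw [← pullbackId_hom_pullSect M U m]
  exact congr($(congrArg (fun k => Scheme.Modules.Hom.app k U) ((Scheme.Modules.pullbackId X).hom_inv_id_app M))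
    (OmegaSh.pullSect (𝟙 X) M U m))

theorem hom_ext_universal {X Y : Scheme.{u}} {g : X ⟶ Y} {Ω F : X.Modules} {d : OmegaSh.Der g Ω}
    (hd : OmegaSh.IsUniversal d) {a b : Ω ⟶ F}
    (h : ∀ (U : X.Opens) (s : Γ(X, U)), a.app U (d.app U s) = b.app U (d.app U s)) : a = b := by
  obtain ⟨_, -, hu⟩ := hd F (d.postcomp b.val)
  refine (hu a ?_).trans (hu b rfl).symm
  ext U s
  exact h U.unop s

variable {X Y Z : Scheme.{u}} (f : X ⟶ Y) (g : Y ⟶ Z)
  {ΩY : Y.Modules} {dY : OmegaSh.Der g ΩY} (hY : OmegaSh.IsUniversal dY)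
  {ΩX : X.Modules} {dX : OmegaSh.Der (f ≫ g) ΩX} (hX : OmegaSh.IsUniversal dX)
  {ΩXY : X.Modules} {dXY : OmegaSh.Der f ΩXY} (hXY : OmegaSh.IsUniversal dXY)
  {c₁ : (Scheme.Modules.pullback f).obj ΩY ⟶ ΩX} (hc₁ : OmegaSh.IsDiffCompat f dY dX c₁)
  {c₂ : (Scheme.Modules.pullback (𝟙 X)).obj ΩX ⟶ ΩXY} (hc₂ : OmegaSh.IsDiffCompat (𝟙 X) dX dXY c₂)

include hY hX hXY hc₁ hc₂ in
theorem exact_differentials_comp :
    Epi c₂ ∧
      imageSubobject c₁ = kernelSubobject ((Scheme.Modules.pullbackId X).inv.app ΩX ≫ c₂) := by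
  let c := (Scheme.Modules.pullbackId X).inv.app ΩX ≫ c₂
  have hc : ∀ (U : X.Opens) (s : Γ(X, U)), c.app U (dX.app U s) = dXY.app U s := fun U s => by
    show c₂.app U (((Scheme.Modules.pullbackId X).inv.app ΩX).app U (dX.app U s)) = _
    rw [pullbackId_inv_app]
    exact hc₂ U s
  have w : c₁ ≫ c = 0 := by
    refine ((Scheme.Modules.pullbackPushforwardAdjunction f).homEquiv _ _).injective ?_
    rw [Adjunction.homEquiv_unit, Adjunction.homEquiv_unit]
    refine hom_ext_universal hY fun U s => ?_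
    show c.app (f ⁻¹ᵁ U) (c₁.app (f ⁻¹ᵁ U) (OmegaSh.pullSect f ΩY U (dY.app U s))) = _
    rw [hc₁ U s, hc]
    exact (dXY.d_app s).trans rfl
  have hepi : Epi c := ⟨fun {F} a b hab => hom_ext_universal hXY fun U s => by
    rw [← hc U s]
    exact congr($(congrArg (fun k => Scheme.Modules.Hom.app k U) hab) (dX.app U s))⟩
  refine ⟨epi_of_epi ((Scheme.Modules.pullbackId X).inv.app ΩX) c₂, ?_⟩
  let s := ShortComplex.mk c₁ c w
  haveI : Epi s.g := hepi
  refine ((ShortComplex.exact_iff_image_eq_kernel s).1 ?_)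
  refine s.exact_of_g_is_cokernel (CokernelCofork.IsColimit.ofπ' c w fun {F} k hk => ?_)
  let D := dX.postcomp k.val
  let D' : OmegaSh.Der f F :=
    { d := D.d
      d_mul := fun a b => D.d_mul a b
      d_map := fun i b => D.d_map i b
      d_app := fun {U} a => by
        show k.app (f ⁻¹ᵁ U.unop) (dX.app (f ⁻¹ᵁ U.unop) (f.app U.unop a)) = 0
        rw [← hc₁ U.unop a]
        exact congr($(congrArg (fun l => Scheme.Modules.Hom.app l (f ⁻¹ᵁ U.unop)) hk)
          (OmegaSh.pullSect f ΩY U.unop (dY.app U.unop a))) }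
  refine ⟨(hXY F D').choose, hom_ext_universal hX fun U b => ?_⟩
  show (hXY F D').choose.app U (c.app U (dX.app U b)) = _
  rw [hc]
  exact PresheafOfModules.Derivation.congr_d (hXY F D').choose_spec.1 (X := op U) b

end Groth.Agent.PPSheaf
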