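import Groth.Agent.Synt29.ConormalExact
import Groth.Agent.Synt29.ConormalSeq
import Groth.Agent.PPSheaf.OmegaComp

/-!
# The exact sequence of conormal sheaves of a composite of immersions
-/

set_option autoImplicit false

universe u

open CategoryTheory CategoryTheory.Limits AlgebraicGeometry TopologicalSpace Opposite

namespace Groth.Agent.PPSheaf

open Groth.Agent.Synt29.OmegaStalk Groth.Agent.Synt29.ConormalStalk Groth.Agent.Synt29.ConormalSeq Groth.Agent.KFlatLib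
open Groth.Agent.Synt29 (ConormalExact.exists_unit)

variable {Z : Scheme.{u}} {W : Scheme.{u}}

/-- The class in the conormal stalk of a germ of the ideal. -/
noncomputable def cls (i : Z ⟶ W) (x : Z) (m : St (I i) (i x)) : St (Omega.conormal i) x :=
  ((stalkPullbackIso i x).app (I i)).inv (unit1 i x m)

theorem cls_gm (i : Z ⟶ W) (x : Z) {U : W.Opens} (hx : x ∈ i ⁻¹ᵁ U) (k : Γ(I i, U)) :
    gm (Omega.conormal i) hx (OmegaSh.conormalSect i U k) = cls i x (gm (I i) hx k) := by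
  let P := (stalkPullbackIso i x).app (I i)
  refine (ConcreteCategory.bijective_of_isIso P.hom).1 ?_
  refine (stalkPullbackIso_gm i (I i) x hx k).trans (Eq.symm ?_)
  exact congr($(P.inv_hom_id) (unit1 i x (gm (I i) hx k)))

theorem cls_add (i : Z ⟶ W) (x : Z) (m m' : St (I i) (i x)) : cls i x (m + m') = cls i x m + cls i x m' := by
  show ((stalkPullbackIso i x).app (I i)).inv _ = _
  rw [show unit1 i x (m + m') = unit1 i x m + unit1 i x m' from
    map_add ((ModuleCat.extendRestrictScalarsAdj (i.stalkMap x).hom).unit.app (St (I i) (i x))).hom m m']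
  exact map_add _ _ _

theorem cls_eq_zero_iff (i : Z ⟶ W) [IsImmersion i] [QuasiCompact i] (x : Z) {m : St (I i) (i x)}
    {a : W.presheaf.stalk (i x)} (h : Rep i (i x) m a) :
    cls i x m = 0 ↔ a ∈ RingHom.ker (i.stalkMap x).hom ^ 2 := by
  constructor
  · intro h0
    refine mem_sq_of_unit1_eq_zero i (i.stalkMap_surjective x) h ?_
    exact (ConcreteCategory.bijective_of_isIso ((stalkPullbackIso i x).app (I i)).inv).1
      (h0.trans (map_zero _).symm)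
  · intro ha
    show ((stalkPullbackIso i x).app (I i)).inv (unit1 i x m) = 0
    rw [unit1_eq_zero_of_mem_sq i h ha]
    exact map_zero _

variable {X Y Y' : Scheme.{u}} (f : Y ⟶ X) [IsImmersion f] [QuasiCompact f]
  (j : Y' ⟶ Y) [IsImmersion j] [QuasiCompact j]
  (φ₁ : (Scheme.Modules.pullback j).obj (Omega.conormal f) ⟶ Omega.conormal (j ≫ f))
  (hφ₁ : OmegaSh.IsConormalMap (j ≫ f) f (𝟙 X) j φ₁)
  (φ₂ : (Scheme.Modules.pullback (𝟙 Y')).obj (Omega.conormal (j ≫ f)) ⟶ Omega.conormal j)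
  (hφ₂ : OmegaSh.IsConormalMap j (j ≫ f) f (𝟙 Y') φ₂)

include hφ₂ in
/-- The second map on classes. -/
theorem snd_cls (x : Y') {m : St (I (j ≫ f)) ((j ≫ f) x)} {a : X.presheaf.stalk ((j ≫ f) x)}
    (h : Rep (j ≫ f) ((j ≫ f) x) m a) :
    ∃ m', Rep j (j x) m' (f.stalkMap (j x) a) ∧
      (DerSch.stalkFunctor Y' x).map ((Scheme.Modules.pullbackId Y').inv.app (Omega.conormal (j ≫ f)) ≫ φ₂)
        (cls (j ≫ f) x m) = cls j x m' := by
  obtain ⟨U, hy, s', rfl, rfl⟩ := h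
  obtain ⟨s, hs, he⟩ := Groth.Agent.Synt29.ConormalExact.psi_gen f j φ₂ hφ₂ U s' (x := x) hy
  refine ⟨gm (I j) (show j x ∈ f ⁻¹ᵁ U from hy) s, ⟨f ⁻¹ᵁ U, hy, s, rfl, ?_⟩, ?_⟩
  · rw [hs]; exact (Scheme.Hom.germ_stalkMap_apply f U (j x) hy _).symm
  · rw [← cls_gm (j ≫ f) x hy s', ← cls_gm j x (show x ∈ j ⁻¹ᵁ (f ⁻¹ᵁ U) from hy) s, Functor.map_comp, ModuleCat.comp_apply, ← he]
    refine congrArg _ ((DerSch.stalkFunctor_map_germ x _ _ _ _).trans ?_)
    exact congrArg (gm _ _) (pullbackId_inv_app _ _ _)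

omit [QuasiCompact j] in
include hφ₁ in
/-- The first map on classes. -/
theorem fst_cls [QuasiCompact (j ≫ f)] [IsImmersion (j ≫ f)] (x : Y') {m : St (I f) (f (j x))}
    {a : X.presheaf.stalk (f (j x))} (h : Rep f (f (j x)) m a) :
    ∃ (u : St ((Scheme.Modules.pullback j).obj (Omega.conormal f)) x) (m' : St (I (j ≫ f)) ((j ≫ f) x)),
      Rep (j ≫ f) ((j ≫ f) x) m' a ∧
      (stalkPullbackIso j x).hom.app (Omega.conormal f) u =
        ((ModuleCat.extendRestrictScalarsAdj (j.stalkMap x).hom).unit.app (St (Omega.conormal f) (j x))).hom (cls f (j x) m) ∧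
      (DerSch.stalkFunctor Y' x).map φ₁ u = cls (j ≫ f) x m' := by
  obtain ⟨U, hy, k, rfl, rfl⟩ := h
  have h0 : (j ≫ f).app ((𝟙 X : X ⟶ X) ⁻¹ᵁ U) ((𝟙 X : X ⟶ X).app U (OmegaSh.idealSect f.ker U k)) = 0 := by
    show j.app _ (f.app U (OmegaSh.idealSect f.ker U k)) = 0
    rw [OmegaUniv.app_idealSect, map_zero]
  obtain ⟨s, hs⟩ := OmegaUniv.exists_idealSect_of_app_eq_zero (j ≫ f) _ _ h0
  refine ⟨gm _ (show x ∈ j ⁻¹ᵁ (f ⁻¹ᵁ U) from hy)
      (OmegaSh.pullSect j (Omega.conormal f) (f ⁻¹ᵁ U) (OmegaSh.conormalSect f U k)),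
    gm (I (j ≫ f)) (show (j ≫ f) x ∈ (𝟙 X : X ⟶ X) ⁻¹ᵁ U from hy) s,
    ⟨U, hy, s, rfl, congrArg (X.presheaf.germ U (f (j x)) hy) hs⟩, ?_, ?_⟩
  · rw [← cls_gm f (j x) hy k]
    exact stalkPullbackIso_gm j (Omega.conormal f) x (show x ∈ j ⁻¹ᵁ (f ⁻¹ᵁ U) from hy) _
  · refine (DerSch.stalkFunctor_map_germ x φ₁ _ _ _).trans ?_
    have h1 := hφ₁.2 U k s hs (j ⁻¹ᵁ (f ⁻¹ᵁ U)) le_rfl le_rfl
    have h2 := congrArg (gm (Omega.conormal (j ≫ f)) (show x ∈ j ⁻¹ᵁ (f ⁻¹ᵁ U) from hy)) h1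
    erw [gm_res, gm_res] at h2
    exact h2.trans (cls_gm (j ≫ f) x hy s)

include hφ₁ hφ₂ in
theorem exact_conormal_comp [QuasiCompact (j ≫ f)] [IsImmersion (j ≫ f)] : Epi φ₂ ∧
      imageSubobject φ₁ =
        kernelSubobject ((Scheme.Modules.pullbackId Y').inv.app (Omega.conormal (j ≫ f)) ≫ φ₂) := by
  let c := (Scheme.Modules.pullbackId Y').inv.app (Omega.conormal (j ≫ f)) ≫ φ₂
  have hrep : ∀ (x : Y') (z : St (Omega.conormal (j ≫ f)) x), ∃ m a, Rep (j ≫ f) ((j ≫ f) x) m a ∧ cls (j ≫ f) x m = z :=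
    fun x z => by
      obtain ⟨U, hx, k, rfl⟩ := exists_conormalSect (j ≫ f) x z
      exact ⟨_, _, ⟨U, hx, k, rfl, rfl⟩, (cls_gm _ x hx k).symm⟩
  have hJ : ∀ (x : Y') (a : X.presheaf.stalk ((j ≫ f) x)),
      a ∈ RingHom.ker ((j ≫ f).stalkMap x).hom ↔ f.stalkMap (j x) a ∈ RingHom.ker (j.stalkMap x).hom := fun x a => by
    rw [Scheme.Hom.stalkMap_comp]; rfl
  have hepi : Epi c := by
    rw [epi_iff_stalk]
    intro x z
    obtain ⟨U, hx, k, rfl⟩ := exists_conormalSect j x z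
    obtain ⟨a, ha⟩ := f.stalkMap_surjective (j x) (Y.presheaf.germ U (j x) hx (OmegaSh.idealSect j.ker U k))
    have hk : Rep j (j x) (gm (I j) hx k) (f.stalkMap (j x) a) := ⟨U, hx, k, rfl, ha.symm⟩
    obtain ⟨m, hm⟩ := exists_rep (j ≫ f) (x := x) ((hJ x a).2 (rep_mem j hk))
    obtain ⟨m', hm', he⟩ := snd_cls f j φ₂ hφ₂ x hm
    refine ⟨cls (j ≫ f) x m, he.trans ?_⟩
    rw [rep_inj j hm' hk, cls_gm j x hx k]
  have w : φ₁ ≫ c = 0 := by
    refine Groth.Agent.Synt29.ConormalExact.hom_ext_stalk _ _ fun x u => ?_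
    rw [Functor.map_zero, Functor.map_comp]
    obtain ⟨z, hz⟩ := Groth.Agent.Synt29.ConormalExact.exists_unit j x (j.stalkMap_surjective x) _ u
    obtain ⟨U, hx, k, rfl⟩ := exists_conormalSect f (j x) z
    have hk : Rep f (f (j x)) (gm (I f) hx k) (X.presheaf.germ U (f (j x)) hx (OmegaSh.idealSect f.ker U k)) :=
      ⟨U, hx, k, rfl, rfl⟩
    obtain ⟨u', m', hm', hu', he⟩ := fst_cls f j φ₁ hφ₁ x hk
    obtain rfl : u = u' := (ConcreteCategory.bijective_of_isIso ((stalkPullbackIso j x).app (Omega.conormal f)).hom).1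
      (hz.trans (((cls_gm f (j x) hx k) ▸ hu').symm))
    obtain ⟨m'', hm'', he'⟩ := snd_cls f j φ₂ hφ₂ x hm'
    rw [ModuleCat.comp_apply, he, he']
    refine ((cls_eq_zero_iff j x hm'').2 ?_).trans rfl
    rw [rep_mem f hk]
    exact zero_mem _
  refine ⟨epi_of_epi ((Scheme.Modules.pullbackId Y').inv.app _) φ₂, ?_⟩
  let s := ShortComplex.mk φ₁ c w
  refine (ShortComplex.exact_iff_image_eq_kernel s).1 ?_
  rw [exact_iff_stalk]
  intro x
  rw [ShortComplex.moduleCat_exact_iff]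
  intro z hz
  obtain ⟨m, a, hm, rfl⟩ := hrep x z
  obtain ⟨m', hm', he⟩ := snd_cls f j φ₂ hφ₂ x hm
  have h2 := (cls_eq_zero_iff j x hm').1 (he.symm.trans hz)
  have hmap : RingHom.ker (j.stalkMap x).hom ≤ (RingHom.ker ((j ≫ f).stalkMap x).hom).map (f.stalkMap (j x)).hom := by
    intro b hb
    obtain ⟨a', rfl⟩ := f.stalkMap_surjective (j x) b
    exact Ideal.mem_map_of_mem _ ((hJ x a').2 hb)
  have h3 : f.stalkMap (j x) a ∈ (RingHom.ker ((j ≫ f).stalkMap x).hom ^ 2).map (f.stalkMap (j x)).hom :=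
    (Ideal.map_pow (f.stalkMap (j x)).hom _ 2).ge (Ideal.pow_right_mono hmap 2 h2)
  obtain ⟨b, hb, hab⟩ := (Ideal.mem_map_iff_of_surjective (f.stalkMap (j x)).hom (f.stalkMap_surjective (j x))).1 h3
  let a : X.presheaf.stalk (f (j x)) := a
  let b : X.presheaf.stalk (f (j x)) := b
  have hab0 : f.stalkMap (j x) (a - b) = 0 := by
    rw [map_sub]; exact sub_eq_zero.2 hab.symm
  obtain ⟨mk, hmk⟩ := exists_rep f (x := j x) hab0
  obtain ⟨u, m₁, hm₁, -, hu⟩ := fst_cls f j φ₁ hφ₁ x hmk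
  obtain ⟨mb, hmb⟩ := exists_rep (j ≫ f) (x := x) (Ideal.pow_le_self two_ne_zero hb)
  refine ⟨u, hu.trans ?_⟩
  have h4 : Rep (j ≫ f) ((j ≫ f) x) (m₁ + mb) a := by
    exact (show (a - b) + b = a from sub_add_cancel a b) ▸ rep_add (j ≫ f) hm₁ hmb
  rw [← rep_inj (j ≫ f) h4 hm, cls_add, (cls_eq_zero_iff (j ≫ f) x hmb).2 hb, add_zero]

end Groth.Agent.PPSheaf
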