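import Groth.Agent.PPSheaf.Gen
import Groth.Agent.H23.PullPush
import Mathlib.CategoryTheory.Functor.Flat
import Groth.Agent.Nrm6.PMod
import Mathlib.Algebra.Category.ModuleCat.Sheaf.PullbackFree

/-!
# Sections of `P^n_{X/S}` as functions on the neighbourhood of the diagonal
-/

set_option autoImplicit false

universe u

open CategoryTheory CategoryTheory.Limits AlgebraicGeometry TopologicalSpace Opposite
open scoped TensorProduct

namespace Groth.Agent.PPSheaf

/-- The canonical map `h^* O → O`. -/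
noncomputable def pullUnit {Y Z : Scheme.{u}} (h : Y ⟶ Z) :
    (Scheme.Modules.pullback h).obj (Coh.structureModule Z) ⟶ Coh.structureModule Y :=
  SheafOfModules.pullbackObjUnitToUnit h.toRingCatSheafHom

instance isIso_pullUnit {Y Z : Scheme.{u}} (h : Y ⟶ Z) : IsIso (pullUnit h) :=
  inferInstanceAs (IsIso (SheafOfModules.pullbackObjUnitToUnit h.toRingCatSheafHom))

theorem pullUnit_pullSect {Y Z : Scheme.{u}} (h : Y ⟶ Z) (U : Z.Opens) (b : Γ(Z, U)) :
    (pullUnit h).app (h ⁻¹ᵁ U) (OmegaSh.pullSect h (Coh.structureModule Z) U (OmegaSh.strSect Z U b)) =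
      OmegaSh.strSect Y (h ⁻¹ᵁ U) (h.app U b) := by
  have h1 : (Scheme.Modules.pullbackPushforwardAdjunction h).unit.app (Coh.structureModule Z) ≫
      (Scheme.Modules.pushforward h).map (pullUnit h) =
      SheafOfModules.unitToPushforwardObjUnit h.toRingCatSheafHom :=
    (Adjunction.homEquiv_unit (Scheme.Modules.pullbackPushforwardAdjunction h) _ _ (pullUnit h)).symm.trans
      (SheafOfModules.pullbackPushforwardAdjunction_homEquiv_pullbackObjUnitToUnit h.toRingCatSheafHom)
  exact congrArg (fun k => (Scheme.Modules.Hom.app k U) (OmegaSh.strSect Z U b)) h1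

variable {X S : Scheme.{u}} (f : X ⟶ S) (n : ℕ)

/-- The functions on the neighbourhood of the diagonal given by a principal part. -/
noncomputable def toFun (U : X.Opens) :
    Γ(PrinPart.P f n, U) →+ Γ(PrinPart.nbhd f n, PrinPart.pr1 f n ⁻¹ᵁ U) where
  toFun σ := ((pullUnit (PrinPart.pr2 f n)).app (PrinPart.pr1 f n ⁻¹ᵁ U)
    (show Γ((Scheme.Modules.pullback (PrinPart.pr2 f n)).obj (Coh.structureModule X), PrinPart.pr1 f n ⁻¹ᵁ U) from σ) :)
  map_zero' := map_zero ((pullUnit (PrinPart.pr2 f n)).app (PrinPart.pr1 f n ⁻¹ᵁ U)).hom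
  map_add' a b := map_add ((pullUnit (PrinPart.pr2 f n)).app (PrinPart.pr1 f n ⁻¹ᵁ U)).hom a b

theorem toFun_bijective (U : X.Opens) : Function.Bijective (toFun f n U) := by
  have h : Function.Bijective ((pullUnit (PrinPart.pr2 f n)).app (PrinPart.pr1 f n ⁻¹ᵁ U)) := by
    rw [← ConcreteCategory.isIso_iff_bijective]
    exact Scheme.Modules.Hom.isIso_iff_isIso_app.mp inferInstance _
  exact h

theorem toFun_smul (U : X.Opens) (a : Γ(X, U)) (σ : Γ(PrinPart.P f n, U)) :
    toFun f n U (a • σ) = (PrinPart.pr1 f n).app U a * toFun f n U σ :=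
  Scheme.Modules.Hom.app_smul (pullUnit (PrinPart.pr2 f n)) ((PrinPart.pr1 f n).app U a)
    (show Γ((Scheme.Modules.pullback (PrinPart.pr2 f n)).obj (Coh.structureModule X), PrinPart.pr1 f n ⁻¹ᵁ U) from σ)

theorem toFun_dn (U : X.Opens) (b : Γ(X, U)) :
    toFun f n U (PrinPart.dn f n U b) =
      (PrinPart.pr2 f n).appLE U (PrinPart.pr1 f n ⁻¹ᵁ U) (PrinPart.preimage_pr1 f n U).le b := by
  refine (Nrm6.hom_app_res (pullUnit (PrinPart.pr2 f n)) (homOfLE (PrinPart.preimage_pr1 f n U).le)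
    (OmegaSh.pullSect (PrinPart.pr2 f n) (Coh.structureModule X) U (OmegaSh.strSect X U b))).trans ?_
  rw [pullUnit_pullSect]
  rfl

theorem exists_tensor_equiv {A B A' B' : Type u} [CommRing A] [CommRing B] [CommRing A'] [CommRing B']
    [Algebra A B] [Algebra A' B'] (α : A ≃+* A') (β : B ≃+* B')
    (h : ∀ a, β (algebraMap A B a) = algebraMap A' B' (α a)) :
    ∃ j : B ⊗[A] B →+* B' ⊗[A'] B', Function.Bijective j ∧ (∀ b c, j (b ⊗ₜ c) = β b ⊗ₜ β c) ∧
      ∀ m : ℕ, ∀ t, j t ∈ KaehlerDifferential.ideal A' B' ^ m ↔ t ∈ KaehlerDifferential.ideal A B ^ m := by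
  let T' := B' ⊗[A'] B'
  let T := B ⊗[A] B
  letI : Algebra A (B' ⊗[A'] B') := ((algebraMap A' (B' ⊗[A'] B')).comp α.toRingHom).toAlgebra
  let l : B →ₐ[A] B' ⊗[A'] B' :=
    { toRingHom := (Algebra.TensorProduct.includeLeftRingHom : B' →+* B' ⊗[A'] B').comp β.toRingHom
      commutes' := fun a => by
        show (β (algebraMap A B a)) ⊗ₜ[A'] (1 : B') = algebraMap A' (B' ⊗[A'] B') (α a)
        rw [h, Algebra.TensorProduct.algebraMap_apply] }
  let r : B →ₐ[A] B' ⊗[A'] B' :=
    { toRingHom := (Algebra.TensorProduct.includeRight : B' →ₐ[A'] B' ⊗[A'] B').toRingHom.comp β.toRingHom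
      commutes' := fun a => by
        show (1 : B') ⊗ₜ[A'] (β (algebraMap A B a)) = algebraMap A' (B' ⊗[A'] B') (α a)
        rw [h, Algebra.TensorProduct.algebraMap_apply'] }
  let j : B ⊗[A] B →ₐ[A] B' ⊗[A'] B' :=
    Algebra.TensorProduct.lift (R := A) (S := A) l r (fun _ _ => Commute.all _ _)
  have hj : ∀ b c, j (b ⊗ₜ c) = β b ⊗ₜ β c := fun b c => by
    show Algebra.TensorProduct.lift l r _ (b ⊗ₜ c) = _
    rw [Algebra.TensorProduct.lift_tmul]
    show (β b ⊗ₜ[A'] (1 : B')) * ((1 : B') ⊗ₜ[A'] β c) = _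
    rw [Algebra.TensorProduct.tmul_mul_tmul, mul_one, one_mul]
  letI : Algebra A' (B ⊗[A] B) := ((algebraMap A (B ⊗[A] B)).comp α.symm.toRingHom).toAlgebra
  have h' : ∀ a', β.symm (algebraMap A' B' a') = algebraMap A B (α.symm a') := fun a' => by
    apply β.injective
    rw [RingEquiv.apply_symm_apply, h, RingEquiv.apply_symm_apply]
  let l' : B' →ₐ[A'] B ⊗[A] B :=
    { toRingHom := (Algebra.TensorProduct.includeLeftRingHom : B →+* B ⊗[A] B).comp β.symm.toRingHom
      commutes' := fun a => by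
        show (β.symm (algebraMap A' B' a)) ⊗ₜ[A] (1 : B) = algebraMap A (B ⊗[A] B) (α.symm a)
        rw [h', Algebra.TensorProduct.algebraMap_apply] }
  let r' : B' →ₐ[A'] B ⊗[A] B :=
    { toRingHom := (Algebra.TensorProduct.includeRight : B →ₐ[A] B ⊗[A] B).toRingHom.comp β.symm.toRingHom
      commutes' := fun a => by
        show (1 : B) ⊗ₜ[A] (β.symm (algebraMap A' B' a)) = algebraMap A (B ⊗[A] B) (α.symm a)
        rw [h', Algebra.TensorProduct.algebraMap_apply'] }
  let j' : B' ⊗[A'] B' →ₐ[A'] B ⊗[A] B :=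
    Algebra.TensorProduct.lift (R := A') (S := A') l' r' (fun _ _ => Commute.all _ _)
  have hj' : ∀ b c, j' (b ⊗ₜ c) = β.symm b ⊗ₜ β.symm c := fun b c => by
    show Algebra.TensorProduct.lift l' r' _ (b ⊗ₜ c) = _
    rw [Algebra.TensorProduct.lift_tmul]
    show (β.symm b ⊗ₜ[A] (1 : B)) * ((1 : B) ⊗ₜ[A] β.symm c) = _
    rw [Algebra.TensorProduct.tmul_mul_tmul, mul_one, one_mul]
  have h23 : ∀ t, j (j' t) = t := fun t => by
    induction t with
    | zero => simp
    | add a b ha hb => simp only [map_add, ha, hb]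
    | tmul a b => simp [hj, hj']
  have h32 : ∀ t, j' (j t) = t := fun t => by
    induction t with
    | zero => simp
    | add a b ha hb => simp only [map_add, ha, hb]
    | tmul a b => simp [hj, hj']
  let e : B ⊗[A] B ≃+* B' ⊗[A'] B' :=
    RingEquiv.ofRingHom j.toRingHom j'.toRingHom (RingHom.ext h23) (RingHom.ext h32)
  have hval : ∀ b c, e (b ⊗ₜ c) = β b ⊗ₜ β c := hj
  refine ⟨e.toRingHom, e.bijective, hval, fun m t => ?_⟩
  have hmul : ∀ t, Algebra.TensorProduct.lmul' A' (e t) = β (Algebra.TensorProduct.lmul' A t) := fun t => by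
    induction t with
    | zero => simp
    | add a b ha hb => simp only [map_add, ha, hb]
    | tmul a b => simp [hval]
  have hI : (KaehlerDifferential.ideal A B).map (e : _ →+* _) = KaehlerDifferential.ideal A' B' := by
    ext s
    obtain ⟨t, rfl⟩ := e.surjective s
    rw [show e t ∈ Ideal.map (e : _ →+* _) (KaehlerDifferential.ideal A B) ↔ _ from Ideal.mem_map_of_equiv e (e t)]
    constructor
    · rintro ⟨t', ht', h'⟩
      rw [← e.injective h']
      show Algebra.TensorProduct.lmul' A' (e t') = 0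
      rw [hmul, show Algebra.TensorProduct.lmul' A t' = 0 from ht', map_zero]
    · intro hs
      refine ⟨t, β.injective ?_, rfl⟩
      rw [map_zero]
      exact (hmul t).symm.trans hs
  rw [← hI, ← Ideal.map_pow,
    show e.toRingHom t ∈ Ideal.map (e : _ →+* _) (KaehlerDifferential.ideal A B ^ m) ↔ _ from
      Ideal.mem_map_of_equiv e (e t)]
  exact ⟨fun ⟨t', ht', h'⟩ => e.injective h' ▸ ht', fun h' => ⟨t, h', rfl⟩⟩

theorem globalSections_affine (A B : Type u) [CommRing A] [CommRing B] [Algebra A B] (n : ℕ)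
    (ψ : B ⊗[A] B →+
      Γ(PrinPart.P (Spec.map (CommRingCat.ofHom (algebraMap A B))) n, (⊤ : (Spec (CommRingCat.of B)).Opens)))
    (hψ : ∀ b b' : B, ψ (b ⊗ₜ[A] b') =
      (Scheme.ΓSpecIso (CommRingCat.of B)).inv b •
        PrinPart.dn (Spec.map (CommRingCat.ofHom (algebraMap A B))) n ⊤
          ((Scheme.ΓSpecIso (CommRingCat.of B)).inv b')) :
    Function.Surjective ψ ∧ ψ.ker = (KaehlerDifferential.ideal A B ^ (n + 1)).toAddSubgroup := by
  let f := Spec.map (CommRingCat.ofHom (algebraMap A B))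
  let α := (Scheme.ΓSpecIso (CommRingCat.of A)).symm.commRingCatIsoToRingEquiv
  let β := (Scheme.ΓSpecIso (CommRingCat.of B)).symm.commRingCatIsoToRingEquiv
  let V : (Spec (CommRingCat.of A)).affineOpens := ⟨⊤, isAffineOpen_top _⟩
  let U : (Spec (CommRingCat.of B)).affineOpens := ⟨⊤, isAffineOpen_top _⟩
  letI : Algebra Γ(Spec (CommRingCat.of A), V.1) Γ(Spec (CommRingCat.of B), U.1) :=
    (f.appLE V.1 U.1 le_top).hom.toAlgebra
  obtain ⟨-, φ, hsurj, hker, hl, hr⟩ := exists_chart f V U le_top n rfl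
  have hcomm : ∀ a, β (algebraMap A B a) =
      algebraMap Γ(Spec (CommRingCat.of A), V.1) Γ(Spec (CommRingCat.of B), U.1) (α a) := fun a => by
    have h1 := congr($(Scheme.ΓSpecIso_inv_naturality (CommRingCat.ofHom (algebraMap A B))) a)
    refine h1.trans ?_
    show f.appTop _ = f.appLE ⊤ ⊤ le_top _
    rw [show f.appLE ⊤ ⊤ le_top = f.appTop from Scheme.Hom.appLE_eq_app f (U := ⊤)]
    rfl
  obtain ⟨j, hj, hjt, hjI⟩ := exists_tensor_equiv α β hcomm
  have key : ∀ t, toFun f n U.1 (ψ t) = φ (j t) := by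
    intro t
    induction t with
    | zero => simp
    | add a b ha hb => rw [map_add, map_add, map_add, map_add, ha, hb]
    | tmul a b =>
      rw [hψ, toFun_smul, toFun_dn, hjt,
        show (β a) ⊗ₜ[Γ(Spec (CommRingCat.of A), V.1)] (β b) = (β a ⊗ₜ 1) * (1 ⊗ₜ β b) by simp, map_mul,
        hl, hr]
      rfl
  refine ⟨fun σ => ?_, AddSubgroup.ext fun t => ?_⟩
  · obtain ⟨t', ht'⟩ := hsurj (toFun f n U.1 σ)
    obtain ⟨t, rfl⟩ := hj.2 t'
    exact ⟨t, (toFun_bijective f n U.1).1 ((key t).trans ht')⟩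
  · rw [AddMonoidHom.mem_ker, Submodule.mem_toAddSubgroup, ← hjI (n + 1) t, ← hker, RingHom.mem_ker, ← key,
      map_eq_zero_iff _ (toFun_bijective f n U.1).1]

end Groth.Agent.PPSheaf
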