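import Groth.Agent.PPSheaf.Nbhd
import Groth.Agent.KFlatLib.Scheme.ClosedPush
import Groth.Agent.KFlatLib.Scheme.Pullback
import Groth.Agent.KFlatLib.Scheme.PushKInj
import Groth.Agent.PPSheaf.Unit
import Mathlib.RingTheory.RingHom.Flat
import Mathlib.RingTheory.Flat.Basic
import Mathlib.RingTheory.Flat.Stability

/-!
# Exactness properties of the functor of principal parts
-/

set_option autoImplicit false
set_option backward.isDefEq.respectTransparency false
set_option backward.isDefEq.respectTransparency.types false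

universe w' w u

open CategoryTheory CategoryTheory.Limits AlgebraicGeometry TopologicalSpace Opposite

namespace Groth.Agent.PPSheaf

section Homeo

variable {X Y : Scheme.{u}} (f : X ⟶ Y) (hf : Topology.IsInducing f.base)

include hf in
theorem isIso_stalkPushforward_of_isInducing (M : X.Modules) (x : X) :
    IsIso (TopCat.Presheaf.stalkPushforward Ab.{u} f.base M.presheaf x) :=
  TopCat.Presheaf.stalkPushforward.stalkPushforward_iso_of_isInducing Ab.{u} hf M.presheaf x

/-- The stalk of a pushforward along an inducing map. -/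
noncomputable def stalkPushIsoInd (x : X) :
    Scheme.Modules.pushforward f ⋙ KFlatLib.stalkAb (X := Y) (f.base x) ≅ KFlatLib.stalkAb (X := X) x :=
  NatIso.ofComponents (fun M =>
      haveI := isIso_stalkPushforward_of_isInducing f hf M x
      asIso (TopCat.Presheaf.stalkPushforward Ab.{u} f.base M.presheaf x))
    fun {M N} φ => KFlatLib.stalkPushforward_naturality' f.base ((KFlatLib.toAb X ⋙ TopCat.Sheaf.forget _ _).map φ) x

include hf in
theorem preservesColimitsOfShape_push_homeo (hs : Function.Surjective f.base) (K : Type w) [Category.{w'} K]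
    [HasColimitsOfShape K X.Modules] [HasColimitsOfShape K Y.Modules]
    [HasColimitsOfShape K Ab.{u}]
    [∀ x : X, PreservesColimitsOfShape K (KFlatLib.stalkAb (X := X) x)]
    [∀ y : Y, PreservesColimitsOfShape K (KFlatLib.stalkAb (X := Y) y)] :
    PreservesColimitsOfShape K (Scheme.Modules.pushforward f) where
  preservesColimit {F} := by
    haveI : IsIso (colimit.post F (Scheme.Modules.pushforward f)) := KFlatLib.isIso_of_stalk _ fun y => by
      let S := KFlatLib.stalkAb (X := Y) y
      haveI : PreservesColimit F (Scheme.Modules.pushforward f ⋙ S) := by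
        obtain ⟨x, rfl⟩ := hs y
        exact preservesColimit_of_natIso F (stalkPushIsoInd f hf x).symm
      haveI : IsIso (colimit.post (F ⋙ Scheme.Modules.pushforward f) S ≫
          S.map (colimit.post F (Scheme.Modules.pushforward f))) := by
        rw [colimit.post_post F (Scheme.Modules.pushforward f) S]
        exact (inferInstance : IsIso (colimit.post F (Scheme.Modules.pushforward f ⋙ S)))
      have h : IsIso (S.map (colimit.post F (Scheme.Modules.pushforward f))) :=
        IsIso.of_isIso_comp_left (colimit.post (F ⋙ Scheme.Modules.pushforward f) S) _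
      exact @isIso_of_reflects_iso _ _ _ _ _ _ _
        (forget₂ (ModuleCat (Y.presheaf.stalk y)) AddCommGrpCat) h _
    exact preservesColimit_of_isIso_post _ F

end Homeo

variable {X S : Scheme.{u}} (f : X ⟶ S) (n : ℕ)

theorem pr1_toNbhd (y : X) : PrinPart.pr1 f n (PrinPart.toNbhd f n y) = y := by
  rw [← Scheme.Hom.comp_apply, PrinPart.toNbhd_pr1]; rfl

theorem toNbhd_pr1_apply (z : PrinPart.nbhd f n) : PrinPart.toNbhd f n (PrinPart.pr1 f n z) = z := by
  obtain ⟨y, rfl⟩ := PrinPart.toInfNbhd_surjective (PrinPart.diagCl f) n z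
  exact congrArg _ (pr1_toNbhd f n y)

theorem pr1_surjective : Function.Surjective (PrinPart.pr1 f n).base :=
  fun y => ⟨PrinPart.toNbhd f n y, pr1_toNbhd f n y⟩

theorem pr1_isInducing : Topology.IsInducing (PrinPart.pr1 f n).base :=
  (Homeomorph.isInducing
    ({ toFun := PrinPart.pr1 f n, invFun := PrinPart.toNbhd f n
       left_inv := toNbhd_pr1_apply f n, right_inv := pr1_toNbhd f n
       continuous_toFun := (PrinPart.pr1 f n).continuous
       continuous_invFun := (PrinPart.toNbhd f n).continuous } : PrinPart.nbhd f n ≃ₜ X))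

theorem preservesColimits_principalParts :
    PreservesColimitsOfSize.{u, u}
      ((Scheme.Modules.pullback (PrinPart.pr2 f n)) ⋙ (Scheme.Modules.pushforward (PrinPart.pr1 f n))) := by
  haveI : PreservesColimitsOfSize.{u, u} (Scheme.Modules.pushforward (PrinPart.pr1 f n)) :=
    ⟨fun {K} _ => preservesColimitsOfShape_push_homeo _ (pr1_isInducing f n) (pr1_surjective f n) K⟩
  haveI : PreservesColimitsOfSize.{u, u} (Scheme.Modules.pullback (PrinPart.pr2 f n)) :=
    (Scheme.Modules.pullbackPushforwardAdjunction _).leftAdjoint_preservesColimits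
  infer_instance

theorem exact_map_pullback_of_stalk {Y Z : Scheme.{u}} (h : Y ⟶ Z) (hfl : ∀ y, (h.stalkMap y).hom.Flat)
    {T : ShortComplex Z.Modules} (hT : T.Exact) [(Scheme.Modules.pullback h).PreservesZeroMorphisms] :
    (T.map (Scheme.Modules.pullback h)).Exact := by
  refine (KFlatLib.exact_iff_stalk _).2 fun y => ?_
  haveI := ModuleCat.preservesFiniteLimits_extendScalars_of_flat (hfl y)
  exact ShortComplex.exact_of_iso (T.mapNatIso (KFlatLib.stalkPullbackIso h y)).symm
    (((KFlatLib.exact_iff_stalk T).1 hT (h.base y)).map (ModuleCat.extendScalars (h.stalkMap y).hom))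

theorem preservesFiniteLimits_pullback_of_stalk {Y Z : Scheme.{u}} (h : Y ⟶ Z)
    (hfl : ∀ y, (h.stalkMap y).hom.Flat) : PreservesFiniteLimits (Scheme.Modules.pullback h) := by
  haveI := (Scheme.Modules.pullbackPushforwardAdjunction h).left_adjoint_additive
  refine (Functor.preservesFiniteLimits_iff_forall_exact_map_and_mono _).2 fun T hT =>
    ⟨exact_map_pullback_of_stalk h hfl hT.exact, ?_⟩
  haveI := hT.mono_f
  have hz : (ShortComplex.mk (0 : T.X₁ ⟶ T.X₁) T.f zero_comp).Exact :=
    (ShortComplex.exact_iff_mono _ rfl).2 hT.mono_f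
  exact (ShortComplex.exact_iff_mono _ (Functor.map_zero _ _ _)).1 (exact_map_pullback_of_stalk h hfl hz)

open Groth.Agent.Synt29.OmegaStalk in
theorem exists_unitStalk {Y : Scheme.{u}} (y : Y) :
    ∃ φ : Y.presheaf.stalk y →ₗ[Y.presheaf.stalk y] St (Coh.structureModule Y) y, Function.Bijective φ ∧
      ∀ (U : Y.Opens) (hy : y ∈ U) (a : Γ(Y, U)),
        φ (Y.presheaf.germ U y hy a) = gm (Coh.structureModule Y) hy (OmegaSh.strSect Y U a) := by
  let o : St (Coh.structureModule Y) y := gm (Coh.structureModule Y) (U := ⊤) trivial (OmegaSh.strSect Y ⊤ 1)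
  let φ := LinearMap.toSpanSingleton (Y.presheaf.stalk y) _ o
  have key : ∀ (U : Y.Opens) (hy : y ∈ U) (a : Γ(Y, U)),
      φ (Y.presheaf.germ U y hy a) = gm (Coh.structureModule Y) hy (OmegaSh.strSect Y U a) := fun U hy a => by
    have ho : o = gm (Coh.structureModule Y) hy (OmegaSh.strSect Y U 1) := by
      show gm (Coh.structureModule Y) (U := ⊤) trivial _ = _
      rw [← gm_res (Coh.structureModule Y) (homOfLE (le_top : U ≤ ⊤)) hy]
      exact congrArg (gm (Coh.structureModule Y) hy) (map_one (Y.presheaf.map (homOfLE le_top).op).hom)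
    show Y.presheaf.germ U y hy a • o = _
    rw [ho, ← gm_smul]
    exact congrArg (gm (Coh.structureModule Y) hy) (mul_one a)
  refine ⟨φ, ⟨?_, fun m => ?_⟩, key⟩
  · rw [injective_iff_map_eq_zero]
    intro r hr
    obtain ⟨U, hy, a, rfl⟩ := Y.presheaf.exists_germ_eq r
    rw [key] at hr
    obtain ⟨W, hW, i, j, h⟩ := (Coh.structureModule Y).presheaf.germ_eq y hy hy _ 0 (hr.trans (map_zero _).symm)
    rw [map_zero] at h
    rw [← Y.presheaf.germ_res_apply i y hW a]
    exact (congrArg (Y.presheaf.germ W y hW) h).trans (map_zero _)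
  · obtain ⟨U, hy, a, rfl⟩ := gm_surjective (Coh.structureModule Y) m
    exact ⟨_, key U hy a⟩

open Groth.Agent.Synt29.OmegaStalk in
theorem flat_pr1_stalkMap (hP : FlatMod.IsFlat (PrinPart.P f n)) (z : PrinPart.nbhd f n) :
    ((PrinPart.pr1 f n).stalkMap z).hom.Flat := by
  let x := PrinPart.pr1 f n z
  let p := (PrinPart.pr1 f n).base
  let N := (Scheme.Modules.pullback (PrinPart.pr2 f n)).obj (Coh.structureModule X)
  haveI h1 : IsIso (TopCat.Presheaf.stalkPushforward Ab.{u} p N.presheaf z) :=
    isIso_stalkPushforward_of_isInducing _ (pr1_isInducing f n) N z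
  haveI h2 : IsIso ((TopCat.Presheaf.stalkFunctor Ab.{u} z).map (Scheme.Modules.Hom.mapPresheaf (pullUnit (PrinPart.pr2 f n)))) :=
    Functor.map_isIso _ ((Scheme.Modules.toPresheaf _).map (pullUnit (PrinPart.pr2 f n)))
  let k := TopCat.Presheaf.stalkPushforward Ab.{u} p N.presheaf z ≫
    (TopCat.Presheaf.stalkFunctor Ab.{u} z).map (Scheme.Modules.Hom.mapPresheaf (pullUnit (PrinPart.pr2 f n)))
  let k' : St (PrinPart.P f n) x →+ St (Coh.structureModule (PrinPart.nbhd f n)) z := k.hom
  have hk : Function.Bijective k' :=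
    (ConcreteCategory.isIso_iff_bijective k).1 (@IsIso.comp_isIso _ _ _ _ _ _ _ h1 h2)
  obtain ⟨φ, hφ, hφg⟩ := exists_unitStalk z
  let φ' := LinearEquiv.ofBijective φ hφ
  have hg : ∀ (U : X.Opens) (hx : x ∈ U) (σ : Γ(PrinPart.P f n, U)),
      φ'.symm (k' (gm (PrinPart.P f n) hx σ)) =
        (PrinPart.nbhd f n).presheaf.germ (PrinPart.pr1 f n ⁻¹ᵁ U) z hx (toFun f n U σ) := by
    intro U hx σ
    rw [LinearEquiv.symm_apply_eq]
    refine Eq.trans ?_ (hφg (PrinPart.pr1 f n ⁻¹ᵁ U) hx (toFun f n U σ)).symm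
    show (TopCat.Presheaf.stalkFunctor Ab.{u} z).map (Scheme.Modules.Hom.mapPresheaf (pullUnit (PrinPart.pr2 f n)))
        (TopCat.Presheaf.stalkPushforward Ab.{u} p N.presheaf z
          ((p _* N.presheaf).germ U (p z) hx σ)) = _
    erw [TopCat.Presheaf.stalkPushforward_germ_apply]
    exact TopCat.Presheaf.stalkFunctor_map_germ_apply (PrinPart.pr1 f n ⁻¹ᵁ U) z hx (Scheme.Modules.Hom.mapPresheaf (pullUnit (PrinPart.pr2 f n))) (show Γ(N, PrinPart.pr1 f n ⁻¹ᵁ U) from σ)
  letI : Algebra (X.presheaf.stalk x) ((PrinPart.nbhd f n).presheaf.stalk z) :=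
    ((PrinPart.pr1 f n).stalkMap z).hom.toAlgebra
  let e : St (PrinPart.P f n) x →ₗ[X.presheaf.stalk x] (PrinPart.nbhd f n).presheaf.stalk z :=
    { toFun := fun a => φ'.symm (k' a)
      map_add' := fun a b => by rw [map_add, map_add]
      map_smul' := fun r a => by
        obtain ⟨U, hxU, r, rfl⟩ := X.presheaf.exists_germ_eq r
        obtain ⟨V, hxV, σ, rfl⟩ := gm_surjective (PrinPart.P f n) a
        rw [← X.presheaf.germ_res_apply (homOfLE inf_le_left : U ⊓ V ⟶ U) x ⟨hxU, hxV⟩,
          ← gm_res (PrinPart.P f n) (homOfLE inf_le_right : U ⊓ V ⟶ V) (x := x) ⟨hxU, hxV⟩,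
          ← gm_smul, RingHom.id_apply, hg, hg, toFun_smul, map_mul]
        rw [Algebra.smul_def]
        congr 1
        exact (Scheme.Hom.germ_stalkMap_apply (PrinPart.pr1 f n) (U ⊓ V) z _ _).symm }
  haveI : Module.Flat (X.presheaf.stalk x) (St (PrinPart.P f n) x) := hP x
  exact Module.Flat.of_linearEquiv (LinearEquiv.ofBijective e (φ'.symm.bijective.comp hk)).symm

theorem flat_pr2_stalkMap (hP : FlatMod.IsFlat (PrinPart.P f n)) (z : PrinPart.nbhd f n) :
    ((PrinPart.pr2 f n).stalkMap z).hom.Flat := by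
  obtain ⟨σ, -, hσσ, h1, -, -⟩ := exists_symmetry f n
  haveI : IsIso σ := ⟨σ, hσσ, hσσ⟩
  rw [Scheme.Hom.stalkMap_congr_hom _ _ h1.symm z, Scheme.Hom.stalkMap_comp]
  simp only [CommRingCat.hom_comp]
  refine RingHom.Flat.comp (RingHom.Flat.of_bijective (ConcreteCategory.bijective_of_isIso _))
    (RingHom.Flat.comp (flat_pr1_stalkMap f n hP (σ z))
      (RingHom.Flat.of_bijective (ConcreteCategory.bijective_of_isIso (σ.stalkMap z))))

theorem preservesFiniteLimits_principalParts (hP : FlatMod.IsFlat (PrinPart.P f n)) :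
    PreservesFiniteLimits
      ((Scheme.Modules.pullback (PrinPart.pr2 f n)) ⋙ (Scheme.Modules.pushforward (PrinPart.pr1 f n))) := by
  haveI := preservesFiniteLimits_pullback_of_stalk _ (flat_pr2_stalkMap f n hP)
  haveI : PreservesLimitsOfSize.{0, 0} (Scheme.Modules.pushforward (PrinPart.pr1 f n)) :=
    (Scheme.Modules.pullbackPushforwardAdjunction _).rightAdjoint_preservesLimits
  haveI : PreservesFiniteLimits (Scheme.Modules.pushforward (PrinPart.pr1 f n)) :=
    ⟨fun J _ _ => inferInstance⟩
  exact comp_preservesFiniteLimits _ _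

end Groth.Agent.PPSheaf
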