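import Groth.Agent.PPSheaf.Gen
import Groth.Prelude.Def_OmegaPn

/-!
# The maps of sheaves of principal parts are epimorphisms when the stalk maps are surjective
-/

set_option autoImplicit false

universe u

open CategoryTheory CategoryTheory.Limits AlgebraicGeometry TopologicalSpace Opposite

namespace Groth.Agent.PPSheaf

open Groth.Agent.Synt29.OmegaStalk

theorem stalkFunctor_map_gm {X : Scheme.{u}} {M N : X.Modules} (c : M ⟶ N) {U : X.Opens} {x : X} (hx : x ∈ U)
    (s : Γ(M, U)) : (DerSch.stalkFunctor X x).map c (gm M hx s) = gm N hx (c.app U s) :=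
  TopCat.Presheaf.stalkFunctor_map_germ_apply U x hx (Scheme.Modules.Hom.mapPresheaf c) s

theorem epi_of_isPMap {X X' S S' : Scheme.{u}} (f : X ⟶ S) (f' : X' ⟶ S') (u : X' ⟶ X)
    (hu : ∀ x, Function.Surjective (u.stalkMap x)) (n : ℕ)
    (φ : (Scheme.Modules.pullback u).obj (PrinPart.P f n) ⟶ PrinPart.P f' n)
    (hφ : PrinPart.IsPMap f f' u n φ) : Epi φ := by
  rw [epi_iff_stalk]
  intro x
  have key : ∀ (V : X'.Opens) (hV : x ∈ V) (σ : Γ(PrinPart.P f' n, V)),
      σ ∈ Submodule.span Γ(X', V) (Set.range (PrinPart.dP f' n (Coh.structureModule X') V)) →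
      gm (PrinPart.P f' n) hV σ ∈ LinearMap.range ((DerSch.stalkFunctor X' x).map φ).hom := by
    intro V hV σ hσ
    induction hσ using Submodule.span_induction with
    | zero => rw [map_zero]; exact zero_mem _
    | add a b _ _ ha hb => rw [map_add]; exact add_mem ha hb
    | smul c a _ ha => rw [gm_smul]; exact Submodule.smul_mem _ _ ha
    | mem a ha =>
      obtain ⟨t, rfl⟩ := ha
      obtain ⟨c, hc⟩ := hu x (X'.presheaf.germ V x hV (OmegaSh.fnSect X' V t))
      obtain ⟨W, hW, b, rfl⟩ := X.presheaf.exists_germ_eq c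
      rw [Scheme.Hom.germ_stalkMap_apply] at hc
      obtain ⟨T, hxT, i₁, i₂, hT⟩ := X'.presheaf.germ_eq x hW hV _ _ hc
      refine ⟨gm ((Scheme.Modules.pullback u).obj (PrinPart.P f n)) (show x ∈ u ⁻¹ᵁ W from hW)
        (OmegaSh.pullSect u (PrinPart.P f n) W (PrinPart.dn f n W b)), ?_⟩
      refine (stalkFunctor_map_gm φ _ _).trans ?_
      rw [hφ W b, ← gm_res _ i₁ hxT, ← gm_res _ i₂ hxT]
      congr 1
      refine (PrinPart.dP_map f' n (Coh.structureModule X') i₁.le _).symm.trans ?_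
      refine Eq.trans ?_ (PrinPart.dP_map f' n (Coh.structureModule X') i₂.le _)
      exact congrArg (PrinPart.dP f' n (Coh.structureModule X') T) hT
  intro m
  obtain ⟨U, hx, σ, rfl⟩ := gm_surjective (PrinPart.P f' n) m
  obtain ⟨V, hle, hxV, hV⟩ := exists_mem_span f' n (Coh.structureModule X') U σ x hx
  obtain ⟨w, hw⟩ := key V hxV _ hV
  exact ⟨w, hw.trans (gm_res _ (homOfLE hle) hxV σ)⟩

end Groth.Agent.PPSheaf
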