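import Mathlib.RingTheory.IsTensorProduct
import Mathlib.RingTheory.Flat.Equalizer
import Groth.Agent.GrFlat5.AtPrime

/-!
# Base change of powers of ideals
-/

set_option autoImplicit false

universe u

open scoped TensorProduct

namespace Groth.Agent.PPSheaf

variable {B B' : Type u} [CommRing B] [CommRing B'] [Algebra B B'] (K : Ideal B)

/-- The map from an ideal to its extension. -/
def extLin : K →ₗ[B] (K.map (algebraMap B B') : Ideal B') where
  toFun k := ⟨algebraMap B B' k.1, Ideal.mem_map_of_mem _ k.2⟩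
  map_add' a b := Subtype.ext (map_add _ _ _)
  map_smul' b k := Subtype.ext (by
    show algebraMap B B' (b * k.1) = b • algebraMap B B' k.1
    rw [map_mul, Algebra.smul_def])

theorem isBaseChange_extLin (hinj : Function.Injective (K.subtype.lTensor B')) :
    IsBaseChange B' (extLin (B' := B') K) := by
  let L := (LinearMap.liftBaseChange B' (extLin (B' := B') K))
  have hL : ∀ t, (L t).1 = TensorProduct.AlgebraTensorModule.rid B B' B' (K.subtype.lTensor B' t) := by
    intro t
    induction t using TensorProduct.induction_on with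
    | zero => simp
    | add a b ha hb => simp only [map_add, Submodule.coe_add, ha, hb]
    | tmul s k =>
      show (s • extLin (B' := B') K k).1 = _
      rw [LinearMap.lTensor_tmul, TensorProduct.AlgebraTensorModule.rid_tmul]
      show s * algebraMap B B' k.1 = k.1 • s
      rw [Algebra.smul_def, mul_comm]
  have hi : Function.Injective L := fun a b h =>
    hinj ((TensorProduct.AlgebraTensorModule.rid B B' B').injective (by rw [← hL, ← hL, h]))
  have hs : Function.Surjective L := by
    rintro ⟨x, hx⟩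
    suffices h : ∃ t, (L t).1 = x from h.imp fun t ht => Subtype.ext ht
    induction hx using Submodule.span_induction with
    | zero => exact ⟨0, by simp⟩
    | add a b _ _ ha hb =>
      obtain ⟨t, rfl⟩ := ha; obtain ⟨t', rfl⟩ := hb
      exact ⟨t + t', by simp⟩
    | smul c a _ ha =>
      obtain ⟨t, rfl⟩ := ha
      exact ⟨c • t, by rw [map_smul]; rfl⟩
    | mem a ha =>
      obtain ⟨k, hk, rfl⟩ := ha
      exact ⟨(1 : B') ⊗ₜ[B] (⟨k, hk⟩ : K), by simp [L, extLin]⟩
  exact IsBaseChange.of_equiv (LinearEquiv.ofBijective L ⟨hi, hs⟩) fun k => by simp [L]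

/-- Injectivity after a base change along a base with flat quotient. -/
theorem injective_lTensor_of_flat_quot (A A' : Type u) [CommRing A] [CommRing A'] [Algebra A A'] [Algebra A B]
    [Algebra A' B'] [Algebra A B'] [IsScalarTower A A' B'] [IsScalarTower A B B'] [Algebra.IsPushout A A' B B']
    [Module.Flat A (B ⧸ K)] : Function.Injective (K.subtype.lTensor B') := by
  let eK := (Algebra.IsPushout.cancelBaseChange A A' B B' K)
  let eB := (Algebra.IsPushout.cancelBaseChange A A' B B' B)
  have hcomm : ∀ t : A' ⊗[A] K, K.subtype.lTensor B' (eK.symm t) = eB.symm ((K.subtype.restrictScalars A).lTensor A' t) := by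
    intro t
    induction t using TensorProduct.induction_on with
    | zero => simp
    | add a b ha hb => simp only [map_add, ha, hb]
    | tmul s k =>
      rw [LinearMap.lTensor_tmul, Algebra.IsPushout.cancelBaseChange_symm_tmul,
        Algebra.IsPushout.cancelBaseChange_symm_tmul, LinearMap.lTensor_tmul]
      rfl
  have h := LinearMap.lTensor_injective_of_exact_of_flat ((Submodule.mkQ K).restrictScalars A) (Submodule.mkQ_surjective K)
    (K.subtype.restrictScalars A) Subtype.val_injective (fun x => LinearMap.exact_subtype_mkQ K x) A'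
  intro a b hab
  obtain ⟨a, rfl⟩ := eK.symm.surjective a
  obtain ⟨b, rfl⟩ := eK.symm.surjective b
  rw [hcomm, hcomm] at hab
  exact congrArg _ (h (eB.symm.injective hab))

/-- Flatness of `B / I^n` from the graded pieces. -/
theorem flat_quot_pow {A : Type u} [CommRing A] [Algebra A B] (σ : B →+* A) (hσ : ∀ a, σ (algebraMap A B a) = a)
    (n : ℕ)
    (hgr : ∀ k < n, ∃ (G : Type u) (_ : AddCommGroup G) (_ : Module A G) (_ : Module.Flat A G)
      (l : (RingHom.ker σ ^ k : Ideal B) →+ G), Function.Surjective l ∧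
        (∀ (b : B) (x : (RingHom.ker σ ^ k : Ideal B)), l (b • x) = σ b • l x) ∧
        ∀ x, l x = 0 ↔ x.1 ∈ RingHom.ker σ ^ (k + 1)) :
    Module.Flat A (B ⧸ RingHom.ker σ ^ n) := by
  induction n with
  | zero =>
    haveI : Subsingleton (B ⧸ RingHom.ker σ ^ 0) := Ideal.Quotient.subsingleton_iff.2 (by simp)
    infer_instance
  | succ k ih =>
    haveI := ih fun j hj => hgr j (Nat.lt_succ_of_lt hj)
    obtain ⟨G, _, _, _, l, hl, hlin, hker⟩ := hgr k (Nat.lt_succ_self k)
    let Ik : Submodule A B := (RingHom.ker σ ^ k).restrictScalars A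
    let lA : Ik →ₗ[A] G :=
      { toFun := fun x => l ⟨x.1, x.2⟩
        map_add' := fun x y => map_add l ⟨x.1, x.2⟩ ⟨y.1, y.2⟩
        map_smul' := fun a x => by
          refine Eq.trans ?_ ((hlin (algebraMap A B a) ⟨x.1, x.2⟩).trans (by rw [hσ]; rfl))
          exact congrArg l (Subtype.ext (Algebra.smul_def a x.1)) }
    have hlA : Function.Surjective lA := fun y => by
      obtain ⟨x, rfl⟩ := hl y
      exact ⟨⟨x.1, x.2⟩, rfl⟩
    let pr : Ik →ₗ[A] B ⧸ RingHom.ker σ ^ (k + 1) :=
      ((Submodule.mkQ (RingHom.ker σ ^ (k + 1))).restrictScalars A).comp Ik.subtype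
    have hpr : ∀ x, lA x = 0 ↔ pr x = 0 := fun x =>
      (hker ⟨x.1, x.2⟩).trans (Submodule.Quotient.mk_eq_zero _).symm
    let F : G →ₗ[A] B ⧸ RingHom.ker σ ^ (k + 1) :=
      (LinearMap.ker lA).liftQ pr (fun x hx => (hpr x).1 hx) ∘ₗ (LinearMap.quotKerEquivOfSurjective lA hlA).symm.toLinearMap
    have hF : ∀ x, F (lA x) = pr x := fun x => by
      simp only [F, LinearMap.coe_comp, LinearEquiv.coe_coe, Function.comp_apply]
      rw [show (LinearMap.quotKerEquivOfSurjective lA hlA).symm (lA x) = Submodule.Quotient.mk x from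
        (LinearEquiv.symm_apply_eq _).2 rfl, Submodule.liftQ_apply]
    have hle : RingHom.ker σ ^ (k + 1) ≤ RingHom.ker σ ^ k := Ideal.pow_le_pow_right (Nat.le_succ k)
    let q : (B ⧸ RingHom.ker σ ^ (k + 1)) →ₗ[A] B ⧸ RingHom.ker σ ^ k :=
      (Submodule.factor hle).restrictScalars A
    refine GrFlat5.flat_of_exact (f := F) (g := q) ?_ (fun y => ⟨fun hy => ?_, ?_⟩) (Submodule.factor_surjective hle)
    · rw [injective_iff_map_eq_zero]
      intro y hy
      obtain ⟨x, rfl⟩ := hlA y
      exact (hpr x).2 ((hF x).symm.trans hy)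
    · obtain ⟨b, rfl⟩ := Submodule.mkQ_surjective _ y
      have hb : b ∈ RingHom.ker σ ^ k := (Submodule.Quotient.mk_eq_zero _).1 hy
      exact ⟨lA ⟨b, hb⟩, hF _⟩
    · rintro ⟨z, rfl⟩
      obtain ⟨x, rfl⟩ := hlA z
      rw [hF]
      exact (Submodule.Quotient.mk_eq_zero _).2 x.2

end Groth.Agent.PPSheaf
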