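import Groth.Agent.PPSheaf.Gen
import Groth.Agent.QCoh.Support
import Groth.Agent.QCoh.PullbackBC
import Mathlib.RingTheory.Finiteness.ModuleFinitePresentation
import Mathlib.RingTheory.IntegralClosure.IsIntegralClosure.Basic

/-!
# The first projection of the infinitesimal neighbourhood of the diagonal is affine, finite when of finite type
-/

set_option autoImplicit false

universe u

open CategoryTheory CategoryTheory.Limits AlgebraicGeometry TopologicalSpace Opposite
open scoped TensorProduct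

namespace Groth.Agent.PPSheaf

section Alg

variable (A B C : Type u) [CommRing A] [CommRing B] [Algebra A B] [CommRing C] [Algebra B C] (n : ℕ)
  (ψ : B ⊗[A] B →ₐ[B] C) (hs : Function.Surjective ψ)
  (hk : RingHom.ker ψ.toRingHom = KaehlerDifferential.ideal A B ^ (n + 1))

include hs hk

theorem isIntegral_of_nilThick : Algebra.IsIntegral B C := by
  refine ⟨fun c => ?_⟩
  obtain ⟨t, rfl⟩ := hs c
  let m := Algebra.TensorProduct.lmul' A t
  have hi : t - m ⊗ₜ 1 ∈ KaehlerDifferential.ideal A B := by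
    rw [KaehlerDifferential.ideal, RingHom.mem_ker]
    show Algebra.TensorProduct.lmul' A _ = 0
    simp [m]
  have h0 : ψ (t - m ⊗ₜ 1) ^ (n + 1) = 0 := by
    rw [← map_pow]
    exact RingHom.mem_ker.1 (hk ▸ Ideal.pow_mem_pow hi (n + 1))
  have h1 : IsIntegral B (ψ (m ⊗ₜ 1)) := by
    rw [show ψ (m ⊗ₜ 1) = algebraMap B C m from ψ.commutes m]
    exact isIntegral_algebraMap
  rw [show ψ t = ψ (t - m ⊗ₜ 1) + ψ (m ⊗ₜ 1) by rw [← map_add, sub_add_cancel]]
  exact (IsIntegral.of_pow (Nat.succ_pos n) (h0 ▸ isIntegral_zero)).add h1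

theorem finite_of_nilThick [Algebra.FiniteType A B] : Module.Finite B C := by
  have := Algebra.FiniteType.of_surjective ψ hs
  have := isIntegral_of_nilThick A B C n ψ hs hk
  exact Algebra.IsIntegral.finite

theorem finitePresentation_of_nilThick [Algebra.FinitePresentation A B] : Module.FinitePresentation B C := by
  have := finite_of_nilThick A B C n ψ hs hk
  have : Algebra.FinitePresentation B C :=
    Algebra.FinitePresentation.of_surjective hs (hk ▸ (KaehlerDifferential.ideal_fg A B).pow)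
  exact Module.FinitePresentation.of_finite_of_finitePresentation B C

end Alg

variable {X S : Scheme.{u}} (f : X ⟶ S) (n : ℕ)

instance isAffineHom_pr1 : IsAffineHom (PrinPart.pr1 f n) := by
  refine isAffineHom_of_forall_exists_isAffineOpen _ fun x => ?_
  obtain ⟨V, U, hxU, e⟩ := exists_affine_pair f x
  letI := (f.appLE V.1 U.1 e).hom.toAlgebra
  exact ⟨U.1, hxU, U.2, (exists_chart f V U e n rfl).1⟩

theorem isQCoh_PMod {F : X.Modules} (hF : Coh.IsQCoh F) : Coh.IsQCoh (PrinPart.PMod f n F) :=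
  QCoh.isQCoh_pushforward (PrinPart.pr1 f n) (QCoh.isQCoh_pullback _ hF)

theorem finite_pr1_app [LocallyOfFiniteType f] (V : S.affineOpens) (U : X.affineOpens) (e : U.1 ≤ f ⁻¹ᵁ V.1) :
    ((PrinPart.pr1 f n).app U.1).hom.Finite := by
  letI := (f.appLE V.1 U.1 e).hom.toAlgebra
  have : Algebra.FiniteType Γ(S, V.1) Γ(X, U.1) := f.finiteType_appLE V.2 U.2 e
  obtain ⟨-, ψ, hs, hk, hl, -⟩ := exists_chart f V U e n rfl
  algebraize [((PrinPart.pr1 f n).app U.1).hom]
  exact finite_of_nilThick _ _ _ n { toRingHom := ψ, commutes' := hl } hs hk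

theorem finitePresentation_pr1_app [LocallyOfFinitePresentation f] (V : S.affineOpens) (U : X.affineOpens)
    (e : U.1 ≤ f ⁻¹ᵁ V.1) :
    letI := ((PrinPart.pr1 f n).app U.1).hom.toAlgebra
    Module.FinitePresentation Γ(X, U.1) Γ(PrinPart.nbhd f n, PrinPart.pr1 f n ⁻¹ᵁ U.1) := by
  letI := (f.appLE V.1 U.1 e).hom.toAlgebra
  have : Algebra.FinitePresentation Γ(S, V.1) Γ(X, U.1) := f.finitePresentation_appLE V.2 U.2 e
  obtain ⟨-, ψ, hs, hk, hl, -⟩ := exists_chart f V U e n rfl
  letI := ((PrinPart.pr1 f n).app U.1).hom.toAlgebra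
  exact finitePresentation_of_nilThick _ _ _ n { toRingHom := ψ, commutes' := hl } hs hk

set_option backward.isDefEq.respectTransparency false in
theorem pullback_sections {Y Z : Scheme.{u}} (q : Y ⟶ Z) {F : Z.Modules} (hF : Coh.IsQCoh F) {U : Z.Opens}
    (hU : IsAffineOpen U) {W : Y.Opens} (hW : IsAffineOpen W) (hle : W ≤ q ⁻¹ᵁ U) :
    (Module.Finite Γ(Z, U) Γ(F, U) → Module.Finite Γ(Y, W) Γ((Scheme.Modules.pullback q).obj F, W)) ∧
    (Module.FinitePresentation Γ(Z, U) Γ(F, U) →
      Module.FinitePresentation Γ(Y, W) Γ((Scheme.Modules.pullback q).obj F, W)) := by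
  letI := (q.appLE U W hle).hom.toAlgebra
  letI : Module Γ(Z, U) Γ((Scheme.Modules.pullback q).obj F, W) := Module.compHom _ (q.appLE U W hle).hom
  haveI : IsScalarTower Γ(Z, U) Γ(Y, W) Γ((Scheme.Modules.pullback q).obj F, W) := .of_algebraMap_smul fun _ _ => rfl
  let l : Γ(F, U) →ₗ[Γ(Z, U)] Γ((Scheme.Modules.pullback q).obj F, W) :=
    { toFun := QCoh.pullSec q F hle
      map_add' := QCoh.pullSec_add q F hle
      map_smul' := fun r m => QCoh.pullSec_smul q F hle r m }
  have h : IsBaseChange Γ(Y, W) l := QCoh.isBaseChange_pullback hU q hW hF hle (fun _ => rfl) l fun _ => rfl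
  exact ⟨fun _ => Module.Finite.equiv h.equiv, fun _ => FinitePresentation.of_isBaseChange l h⟩

set_option backward.isDefEq.respectTransparency false in
theorem sections_of_chart {F : X.Modules} (hF : Coh.IsQCoh F) (U : X.affineOpens) :
    letI := ((PrinPart.pr1 f n).app U.1).hom.toAlgebra
    (Module.Finite Γ(X, U.1) Γ(PrinPart.nbhd f n, PrinPart.pr1 f n ⁻¹ᵁ U.1) → Module.Finite Γ(X, U.1) Γ(F, U.1) →
        Module.Finite Γ(X, U.1) Γ(PrinPart.PMod f n F, U.1)) ∧
    (Module.FinitePresentation Γ(X, U.1) Γ(PrinPart.nbhd f n, PrinPart.pr1 f n ⁻¹ᵁ U.1) →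
        Module.FinitePresentation Γ(X, U.1) Γ(F, U.1) →
        Module.FinitePresentation Γ(X, U.1) Γ(PrinPart.PMod f n F, U.1)) := by
  let p := PrinPart.pr1 f n
  let q := PrinPart.pr2 f n
  let W := p ⁻¹ᵁ U.1
  have hW : IsAffineOpen W := U.2.preimage p
  let N := (Scheme.Modules.pullback q).obj F
  have hle : W ≤ q ⁻¹ᵁ U.1 := (PrinPart.preimage_pr1 f n U.1).le
  obtain ⟨keyF, keyP⟩ := pullback_sections q hF U.2 hW hle
  letI := (p.app U.1).hom.toAlgebra
  letI : Module Γ(X, U.1) Γ(N, W) := Module.compHom _ (p.app U.1).hom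
  haveI : IsScalarTower Γ(X, U.1) Γ(PrinPart.nbhd f n, W) Γ(N, W) := .of_algebraMap_smul fun _ _ => rfl
  let e : Γ(N, W) ≃ₗ[Γ(X, U.1)] Γ(PrinPart.PMod f n F, U.1) :=
    { toFun := fun x => x, invFun := fun x => x, left_inv := fun _ => rfl, right_inv := fun _ => rfl,
      map_add' := fun _ _ => rfl, map_smul' := fun r x => (QCoh.pushforward_smul p U.1 r x).symm }
  refine ⟨fun h1 h2 => ?_, fun h1 h2 => ?_⟩
  · haveI : Module.Finite Γ(X, U.1) Γ(PrinPart.nbhd f n, W) := h1
    have := keyF h2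
    have := Module.Finite.trans (R := Γ(X, U.1)) Γ(PrinPart.nbhd f n, W) Γ(N, W)
    exact Module.Finite.equiv e
  · haveI : Module.FinitePresentation Γ(X, U.1) Γ(PrinPart.nbhd f n, W) := h1
    have := keyP h2
    have := Module.FinitePresentation.trans Γ(X, U.1) Γ(N, W) Γ(PrinPart.nbhd f n, W)
    exact Module.finitePresentation_of_surjective e.toLinearMap e.surjective (by simpa using Submodule.fg_bot)

theorem isCoh_PMod [LocallyOfFiniteType f] {F : X.Modules} (hF : Coh.IsCoh F) : Coh.IsCoh (PrinPart.PMod f n F) := by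
  choose V U hxU e using exists_affine_pair f
  refine ⟨isQCoh_PMod f n hF.1, QCoh.isFT_of_finite (isQCoh_PMod f n hF.1) (fun x => (U x).1)
    (top_unique fun x _ => Opens.mem_iSup.2 ⟨x, hxU x⟩) (fun x => (U x).2) fun x => ?_⟩
  exact (sections_of_chart f n hF.1 (U x)).1 (finite_pr1_app f n (V x) (U x) (e x))
    (QCoh.finite_of_isFT hF.1 hF.2 (U x).2)

theorem isFP_PMod [LocallyOfFinitePresentation f] {F : X.Modules} (hF : CohB1.IsFP F) :
    CohB1.IsFP (PrinPart.PMod f n F) := by
  choose V U hxU e using exists_affine_pair f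
  have hq := QCoh.isQCoh_of_isFP hF
  refine QCoh.isFP_of_finitePresentation (isQCoh_PMod f n hq) (fun x => (U x).1)
    (top_unique fun x _ => Opens.mem_iSup.2 ⟨x, hxU x⟩) (fun x => (U x).2) fun x => ?_
  exact (sections_of_chart f n hq (U x)).2 (finitePresentation_pr1_app f n (V x) (U x) (e x))
    ((QCoh.isFP_iff hq).1 hF (U x))

end Groth.Agent.PPSheaf
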