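import Groth.Agent.PPSheaf.PBCAlg
import Groth.Agent.PPSheaf.Finite
import Groth.Agent.PPSheaf.Unit
import Groth.Agent.ZClosLib.Basic
import Groth.Agent.QCoh.VanIdeal
import Mathlib.AlgebraicGeometry.PullbackCarrier

/-!
# Base change of principal parts
-/

set_option autoImplicit false
set_option linter.style.haveILetI false

universe u

open CategoryTheory CategoryTheory.Limits AlgebraicGeometry TopologicalSpace Opposite
open scoped TensorProduct

namespace Groth.Agent.PPSheaf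

open Groth.Agent.Synt29.OmegaStalk

set_option backward.isDefEq.respectTransparency false in
theorem bijective_app_basicOpen {X : Scheme.{u}} {M N : X.Modules} (hM : Coh.IsQCoh M) (hN : Coh.IsQCoh N)
    (φ : M ⟶ N) {W : X.Opens} (hW : IsAffineOpen W) (h : Function.Bijective (φ.app W)) (g : Γ(X, W)) :
    Function.Bijective (φ.app (X.basicOpen g)) := by
  letI := QCoh.basicModule g M
  letI := QCoh.basicModule g N
  haveI := QCoh.isLocalizedModule_basicRes g hM hW
  haveI := QCoh.isLocalizedModule_basicRes g hN hW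
  have hres : ∀ x : Γ(M, W), φ.app (X.basicOpen g) (QCoh.basicRes g M x) = QCoh.basicRes g N (φ.app W x) :=
    fun x => Nrm6.hom_app_res φ (homOfLE (X.basicOpen_le g)) x
  have hsm : ∀ (c : Γ(X, W)) (m : Γ(M, X.basicOpen g)),
      φ.app (X.basicOpen g) (c • m) = c • φ.app (X.basicOpen g) m := fun c m => Scheme.Modules.Hom.app_smul φ _ m
  refine ⟨(injective_iff_map_eq_zero _).2 fun m hm => ?_, fun z => ?_⟩
  · obtain ⟨⟨x, s⟩, hx⟩ := IsLocalizedModule.surj (Submonoid.powers g) (QCoh.basicRes g M) m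
    have h0 : QCoh.basicRes g N (φ.app W x) = 0 := by
      rw [← hres, ← hx, Submonoid.smul_def, hsm, hm, smul_zero]
    obtain ⟨c, hc⟩ := (IsLocalizedModule.eq_zero_iff (Submonoid.powers g) (QCoh.basicRes g N)).1 h0
    rw [Submonoid.smul_def, ← Scheme.Modules.Hom.app_smul] at hc
    have hcx : c • x = 0 := h.1 (by rw [Submonoid.smul_def, hc, map_zero])
    have h1 := congrArg (QCoh.basicRes g M) hcx
    rw [map_zero, Submonoid.smul_def, map_smul, ← hx] at h1
    exact (IsLocalizedModule.smul_injective (QCoh.basicRes g M) (c * s)) (show (c * s) • m = (c * s) • (0 : Γ(M, X.basicOpen g)) by rw [smul_zero, mul_smul]; exact h1)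
  · obtain ⟨⟨y, s⟩, hy⟩ := IsLocalizedModule.surj (Submonoid.powers g) (QCoh.basicRes g N) z
    obtain ⟨x, rfl⟩ := h.2 y
    obtain ⟨m, hm⟩ : ∃ m, s • m = QCoh.basicRes g M x :=
      ((Module.End.isUnit_iff _).1 (IsLocalizedModule.map_units (QCoh.basicRes g M) s)).2 _
    refine ⟨m, IsLocalizedModule.smul_injective (QCoh.basicRes g N) s ?_⟩
    show s • φ.app (X.basicOpen g) m = s • z
    rw [hy, Submonoid.smul_def, ← hsm]
    exact (congrArg _ hm).trans (hres x)

theorem isIso_of_bijective_cover {X : Scheme.{u}} {M N : X.Modules} (hM : Coh.IsQCoh M) (hN : Coh.IsQCoh N)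
    (φ : M ⟶ N) (h : ∀ x : X, ∃ W : X.Opens, IsAffineOpen W ∧ x ∈ W ∧ Function.Bijective (φ.app W)) :
    IsIso φ := by
  refine ZClosLib.isIso_of_stalkMap_bijective φ fun x => ?_
  obtain ⟨W, hW, hxW, hb⟩ := h x
  refine ⟨(injective_iff_map_eq_zero _).2 fun m hm => ?_, fun z => ?_⟩
  · obtain ⟨O, hO, s, rfl⟩ := TopCat.Presheaf.exists_germ_eq M.presheaf m
    obtain ⟨g, hg, hxg⟩ := hW.exists_basicOpen_le (V := O) ⟨x, hO⟩ hxW
    rw [← TopCat.Presheaf.germ_res_apply M.presheaf (homOfLE hg) x hxg] at hm ⊢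
    generalize M.presheaf.map (homOfLE hg).op s = t at hm ⊢
    have hm' : N.presheaf.germ (X.basicOpen g) x hxg (φ.app (X.basicOpen g) t) = N.presheaf.germ (X.basicOpen g) x hxg 0 :=
      ((TopCat.Presheaf.stalkFunctor_map_germ_apply (X.basicOpen g) x hxg (Scheme.Modules.Hom.mapPresheaf φ) t).symm.trans hm).trans
        (map_zero _).symm
    obtain ⟨T, hxT, i, j, hT⟩ := TopCat.Presheaf.germ_eq N.presheaf x hxg hxg _ _ hm'
    obtain ⟨g', hg', hxg'⟩ := hW.exists_basicOpen_le (V := T) ⟨x, hxT⟩ hxW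
    rw [← TopCat.Presheaf.germ_res_apply M.presheaf (homOfLE (hg'.trans i.le)) x hxg']
    refine Eq.trans (congrArg _ ((bijective_app_basicOpen hM hN φ hW hb g').1 ?_)) (map_zero _)
    rw [map_zero, Nrm6.hom_app_res]
    have h2 := congrArg (N.presheaf.map (homOfLE hg').op) hT
    rw [map_zero, map_zero] at h2
    exact (Nrm6.resM_resM' i (homOfLE hg') _ _).symm.trans h2
  · obtain ⟨O, hO, s, rfl⟩ := TopCat.Presheaf.exists_germ_eq N.presheaf z
    obtain ⟨g, hg, hxg⟩ := hW.exists_basicOpen_le (V := O) ⟨x, hO⟩ hxW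
    obtain ⟨t, ht⟩ := (bijective_app_basicOpen hM hN φ hW hb g).2 (N.presheaf.map (homOfLE hg).op s)
    refine ⟨M.presheaf.germ _ x hxg t,
      (TopCat.Presheaf.stalkFunctor_map_germ_apply (X.basicOpen g) x hxg (Scheme.Modules.Hom.mapPresheaf φ) t).trans ?_⟩
    exact (congrArg _ ht).trans (TopCat.Presheaf.germ_res_apply N.presheaf _ x hxg s)

variable {X S X' S' : Scheme.{u}} {f : X ⟶ S} {g : S' ⟶ S} {u : X' ⟶ X} {f' : X' ⟶ S'}

theorem isIso_of_isPMap (hsq : IsPullback u f' f g) (n : ℕ)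
    (φ : (Scheme.Modules.pullback u).obj (PrinPart.P f n) ⟶ PrinPart.P f' n)
    (hφ : PrinPart.IsPMap f f' u n φ) : IsIso φ := by
  have hP : Coh.IsQCoh (PrinPart.P f n) := isQCoh_PMod f n (QCoh.isQCoh_structureModule (X := X))
  refine isIso_of_bijective_cover (QCoh.isQCoh_pullback u hP)
    (isQCoh_PMod f' n (QCoh.isQCoh_structureModule (X := X'))) φ fun x => ?_
  obtain ⟨V, U, hxU, e⟩ := exists_affine_pair f (u x)
  have hgx : g (f' x) ∈ V.1 := by
    rw [← Scheme.Hom.comp_apply, ← hsq.w, Scheme.Hom.comp_apply]; exact e hxU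
  obtain ⟨_, ⟨V', hV', rfl⟩, hxV', hle⟩ := S'.isBasis_affineOpens.exists_subset_of_mem_open
    (show f' x ∈ g ⁻¹ᵁ V.1 from hgx) (g ⁻¹ᵁ V.1).isOpen
  let W : X'.Opens := u ⁻¹ᵁ U.1 ⊓ f' ⁻¹ᵁ V'
  have hleV : V' ≤ g ⁻¹ᵁ V.1 := hle
  have hW : IsAffineOpen W := by
    haveI : IsAffine _ := V.2
    haveI : IsAffine _ := U.2
    haveI : IsAffine _ := hV'
    exact .of_isIso (Scheme.Hom.isPullback_resLE hsq hleV e (UY := W) rfl).isoPullback.hom
  refine ⟨W, hW, ⟨hxU, hxV'⟩, ?_⟩
  have hpo := (isIso_pushoutSection_iff hsq hleV e (UY := W) rfl).mp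
    (isIso_pushoutSection_of_isAffineOpen hsq hleV e rfl V.2 hV' U.2)
  letI : Algebra Γ(S, V.1) Γ(X, U.1) := (f.appLE V.1 U.1 e).hom.toAlgebra
  letI : Algebra Γ(S, V.1) Γ(S', V') := (g.appLE V.1 V' hleV).hom.toAlgebra
  letI : Algebra Γ(X, U.1) Γ(X', W) := (u.appLE U.1 W inf_le_left).hom.toAlgebra
  letI : Algebra Γ(S', V') Γ(X', W) := (f'.appLE V' W inf_le_right).hom.toAlgebra
  letI : Algebra Γ(S, V.1) Γ(X', W) := (f.appLE V.1 U.1 e ≫ u.appLE U.1 W inf_le_left).hom.toAlgebra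
  haveI : IsScalarTower Γ(S, V.1) Γ(X, U.1) Γ(X', W) := .of_algebraMap_eq fun _ => rfl
  haveI : IsScalarTower Γ(S, V.1) Γ(S', V') Γ(X', W) := .of_algebraMap_eq fun r => congr($(hpo.w).hom r)
  haveI : Algebra.IsPushout Γ(S, V.1) Γ(S', V') Γ(X, U.1) Γ(X', W) :=
    CommRingCat.isPushout_iff_isPushout.mp hpo.flip
  obtain ⟨-, ψ, hs, hk, hl, hr⟩ := exists_chart f V U e n rfl
  obtain ⟨-, ψ', hs', hk', hl', hr'⟩ := exists_chart f' ⟨V', hV'⟩ ⟨W, hW⟩ inf_le_right n rfl
  letI := ((PrinPart.pr1 f n).app U.1).hom.toAlgebra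
  letI := ((PrinPart.pr1 f' n).app W).hom.toAlgebra
  obtain ⟨γ, hγ, hγf⟩ := exists_baseChange_nilThick Γ(S, V.1) Γ(X, U.1) Γ(S', V') Γ(X', W) n _ _
    ψ hs hk hl ψ' hs' hk' hl'
  let N := (Scheme.Modules.pullback u).obj (PrinPart.P f n)
  letI : Module Γ(X, U.1) Γ(N, W) := Module.compHom _ (u.appLE U.1 W inf_le_left).hom
  haveI : IsScalarTower Γ(X, U.1) Γ(X', W) Γ(N, W) := .of_algebraMap_smul fun _ _ => rfl
  let l : Γ(PrinPart.P f n, U.1) →ₗ[Γ(X, U.1)] Γ(N, W) :=
    { toFun := QCoh.pullSec u (PrinPart.P f n) inf_le_left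
      map_add' := QCoh.pullSec_add u (PrinPart.P f n) inf_le_left
      map_smul' := fun r m => QCoh.pullSec_smul u (PrinPart.P f n) inf_le_left r m }
  have hbc : IsBaseChange Γ(X', W) l :=
    QCoh.isBaseChange_pullback U.2 u hW hP inf_le_left (fun _ => rfl) l fun _ => rfl
  let k : Γ(PrinPart.P f n, U.1) ≃ₗ[Γ(X, U.1)] Γ(PrinPart.nbhd f n, PrinPart.pr1 f n ⁻¹ᵁ U.1) :=
    LinearEquiv.ofBijective
      ({ toFun := toFun f n U.1, map_add' := map_add _, map_smul' := fun a s => toFun_smul f n U.1 a s } :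
        Γ(PrinPart.P f n, U.1) →ₗ[Γ(X, U.1)] Γ(PrinPart.nbhd f n, PrinPart.pr1 f n ⁻¹ᵁ U.1))
      (toFun_bijective f n U.1)
  let kk := LinearEquiv.lTensor Γ(X', W) k
  have hkey : ∀ y, toFun f' n W (φ.app W (hbc.equiv y)) = γ (kk y) := by
    intro y
    induction y using TensorProduct.induction_on with
    | zero => simp only [map_zero]
    | add a b ha hb => simp only [map_add, ha, hb]
    | tmul b' σ =>
      rw [IsBaseChange.equiv_tmul, Scheme.Modules.Hom.app_smul, toFun_smul]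
      show _ = γ (b' ⊗ₜ k σ)
      obtain ⟨t, ht⟩ := hs (k σ)
      induction t generalizing σ with
      | zero =>
        have h0 : σ = 0 := k.injective (by rw [← ht, map_zero, map_zero])
        subst h0
        simp only [map_zero, mul_zero, TensorProduct.tmul_zero]
      | add a b ha hb =>
        obtain ⟨sa, hsa⟩ := k.surjective (ψ a)
        obtain ⟨sb, hsb⟩ := k.surjective (ψ b)
        have h0 : σ = sa + sb := k.injective (by rw [← ht, map_add, map_add, hsa, hsb])
        subst h0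
        simp only [map_add, mul_add, TensorProduct.tmul_add, ha sa hsa.symm, hb sb hsb.symm]
      | tmul p q =>
        have h0 : σ = p • PrinPart.dn f n U.1 q := k.injective <| by
          rw [← ht, map_smul]
          show _ = p • toFun f n U.1 (PrinPart.dn f n U.1 q)
          rw [toFun_dn, ← hr, Algebra.smul_def]
          show _ = (PrinPart.pr1 f n).app U.1 p * _
          rw [← hl, ← map_mul, Algebra.TensorProduct.tmul_mul_tmul, mul_one, one_mul]
        subst h0
        rw [← ht, hγf, map_smul]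
        have hdn : φ.app W (l (PrinPart.dn f n U.1 q)) = PrinPart.dn f' n W (u.appLE U.1 W inf_le_left q) := by
          show φ.app W (N.presheaf.map (homOfLE inf_le_left).op
            (OmegaSh.pullSect u (PrinPart.P f n) U.1 (PrinPart.dn f n U.1 q))) = _
          rw [Nrm6.hom_app_res, hφ U.1 q]
          exact (PrinPart.dP_map f' n _ (inf_le_left : W ≤ u ⁻¹ᵁ U.1) _).symm
        rw [show p • l (PrinPart.dn f n U.1 q) = (show Γ(X', W) from u.appLE U.1 W inf_le_left p) • l (PrinPart.dn f n U.1 q) from rfl,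
          Scheme.Modules.Hom.app_smul, toFun_smul, hdn, toFun_dn, ← hr', ← hl', ← hl',
          ← map_mul, Algebra.TensorProduct.tmul_mul_tmul, mul_one, one_mul, hl']
        rfl
  have h1 : Function.Bijective (fun y => toFun f' n W (φ.app W (hbc.equiv y))) := by
    rw [show (fun y => toFun f' n W (φ.app W (hbc.equiv y))) = fun y => γ (kk y) from funext hkey]
    exact hγ.comp kk.bijective
  have h2 : Function.Bijective (fun y => φ.app W (hbc.equiv y)) :=
    ((toFun_bijective f' n W).of_comp_iff' (f := toFun f' n W) (fun y => φ.app W (hbc.equiv y))).1 h1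
  exact (Function.Bijective.of_comp_iff (φ.app W) hbc.equiv.bijective).1 h2

end Groth.Agent.PPSheaf
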