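import Groth.Agent.PPSheaf.Nbhd
import Groth.Agent.PPSheaf.Epi
import Groth.Agent.PPSheaf.PBC
import Groth.Agent.PPSheaf.GrAlg
import Groth.Agent.OmegaLib.IdealMod
import Groth.Agent.QCoh.Stalk

/-!
# The graded pieces of the ideal of an immersion as sheaves, and their base change
-/

set_option autoImplicit false
set_option linter.style.haveILetI false

universe u

open CategoryTheory CategoryTheory.Limits AlgebraicGeometry TopologicalSpace Opposite
open scoped TensorProduct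

namespace Groth.Agent.PPSheaf

theorem appLE_congr_hom' {Y Z : Scheme.{u}} {g h : Y ⟶ Z} (e : g = h) (U : Z.Opens) (W : Y.Opens)
    (h₁ : W ≤ g ⁻¹ᵁ U) (h₂ : W ≤ h ⁻¹ᵁ U) : g.appLE U W h₁ = h.appLE U W h₂ := by
  subst e; rfl

theorem isQCoh_idealMod {X : Scheme.{u}} (K : X.IdealSheafData) : Coh.IsQCoh (ClSub.idealMod K) :=
  QCoh.isQCoh_kernel QCoh.isQCoh_structureModule
    (QCoh.isQCoh_pushforward K.subschemeι QCoh.isQCoh_structureModule) _

theorem isQCoh_grMod {Y X : Scheme.{u}} (i : Y ⟶ X) (n : ℕ) : Coh.IsQCoh (PrinPart.grMod i n) :=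
  QCoh.isQCoh_pullback i (isQCoh_idealMod _)

/-- An element of the ideal as a section of the module of the ideal. -/
noncomputable def idealEquiv {X : Scheme.{u}} (K : X.IdealSheafData) (U : X.affineOpens) :
    K.ideal U ≃ₗ[Γ(X, U.1)] Γ(ClSub.idealMod K, U.1) :=
  LinearEquiv.symm <| LinearEquiv.ofBijective
    ({ toFun := fun k => ⟨OmegaSh.idealSect K U.1 k, OmegaLib.idealSect_mem K U k⟩
       map_add' := fun a b => Subtype.ext (map_add _ a b)
       map_smul' := fun r k => Subtype.ext (OmegaLib.idealSect_smul K U.1 r k) } :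
      Γ(ClSub.idealMod K, U.1) →ₗ[Γ(X, U.1)] K.ideal U)
    ⟨fun a b h => OmegaLib.idealSect_injective K U.1 (congrArg Subtype.val h),
      fun x => (OmegaLib.exists_of_mem K U x.1 x.2).imp fun k hk => Subtype.ext hk⟩

theorem idealSect_idealEquiv {X : Scheme.{u}} (K : X.IdealSheafData) (U : X.affineOpens) (k : K.ideal U) :
    OmegaSh.idealSect K U.1 (idealEquiv K U k) = k.1 :=
  congrArg Subtype.val ((idealEquiv K U).symm_apply_apply k)

/-- The class in the graded piece of an element of a power of the ideal. -/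
noncomputable def grClass {Y X : Scheme.{u}} (i : Y ⟶ X) (n : ℕ) (U : X.affineOpens) {Z : Y.Opens}
    (hZ : Z ≤ i ⁻¹ᵁ U.1) : ((i.ker ^ n).ideal U) →+ Γ(PrinPart.grMod i n, Z) :=
  AddMonoidHom.mk' (fun k => QCoh.pullSec i (ClSub.idealMod (i.ker ^ n)) hZ (idealEquiv _ U k))
    (fun a b => by rw [map_add]; exact QCoh.pullSec_add i _ hZ _ _)

theorem grClass_smul {Y X : Scheme.{u}} (i : Y ⟶ X) (n : ℕ) (U : X.affineOpens) {Z : Y.Opens}
    (hZ : Z ≤ i ⁻¹ᵁ U.1) (b : Γ(X, U.1)) (k : (i.ker ^ n).ideal U) :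
    grClass i n U hZ (b • k) = i.appLE U.1 Z hZ b • grClass i n U hZ k := by
  show QCoh.pullSec i _ hZ (idealEquiv _ U (b • k)) = _
  rw [map_smul, QCoh.pullSec_smul]
  rfl

theorem exists_pullSec_isBaseChange {Y X : Scheme.{u}} (i : Y ⟶ X) {M : X.Modules} (hM : Coh.IsQCoh M)
    {U : X.Opens} (hU : IsAffineOpen U) {Z : Y.Opens} (hZ : Z ≤ i ⁻¹ᵁ U) (hZa : IsAffineOpen Z) :
    letI := (i.appLE U Z hZ).hom.toAlgebra
    letI : Module Γ(X, U) Γ((Scheme.Modules.pullback i).obj M, Z) := Module.compHom _ (i.appLE U Z hZ).hom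
    haveI : IsScalarTower Γ(X, U) Γ(Y, Z) Γ((Scheme.Modules.pullback i).obj M, Z) := .of_algebraMap_smul fun _ _ => rfl
    ∀ (N : Type u) [AddCommGroup N] [Module Γ(X, U) N] (e : N ≃ₗ[Γ(X, U)] Γ(M, U)),
    ∃ p : N →ₗ[Γ(X, U)] Γ((Scheme.Modules.pullback i).obj M, Z),
      (∀ m, p m = QCoh.pullSec i M hZ (e m)) ∧ IsBaseChange Γ(Y, Z) p := by
  letI := (i.appLE U Z hZ).hom.toAlgebra
  letI : Module Γ(X, U) Γ((Scheme.Modules.pullback i).obj M, Z) := Module.compHom _ (i.appLE U Z hZ).hom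
  haveI : IsScalarTower Γ(X, U) Γ(Y, Z) Γ((Scheme.Modules.pullback i).obj M, Z) := .of_algebraMap_smul fun _ _ => rfl
  let p : Γ(M, U) →ₗ[Γ(X, U)] Γ((Scheme.Modules.pullback i).obj M, Z) :=
    { toFun := QCoh.pullSec i M hZ
      map_add' := QCoh.pullSec_add i M hZ
      map_smul' := fun r m => QCoh.pullSec_smul i M hZ r m }
  intro N _ _ e
  exact ⟨p.comp e.toLinearMap, fun _ => rfl,
    IsBaseChange.comp_equiv _ p (QCoh.isBaseChange_pullback hU i hZa hM hZ (fun _ => rfl) p fun _ => rfl)⟩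

theorem exists_isBaseChange_grClass {Y X : Scheme.{u}} (i : Y ⟶ X) (n : ℕ) (U : X.affineOpens) {Z : Y.Opens}
    (hZ : Z ≤ i ⁻¹ᵁ U.1) (hZa : IsAffineOpen Z) :
    letI := (i.appLE U.1 Z hZ).hom.toAlgebra
    letI : Module Γ(X, U.1) Γ(PrinPart.grMod i n, Z) := Module.compHom _ (i.appLE U.1 Z hZ).hom
    haveI : IsScalarTower Γ(X, U.1) Γ(Y, Z) Γ(PrinPart.grMod i n, Z) := .of_algebraMap_smul fun _ _ => rfl
    ∃ l : (i.ker ^ n).ideal U →ₗ[Γ(X, U.1)] Γ(PrinPart.grMod i n, Z),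
      (∀ k, l k = grClass i n U hZ k) ∧ IsBaseChange Γ(Y, Z) l := by
  letI := (i.appLE U.1 Z hZ).hom.toAlgebra
  letI : Module Γ(X, U.1) Γ(PrinPart.grMod i n, Z) := Module.compHom _ (i.appLE U.1 Z hZ).hom
  haveI : IsScalarTower Γ(X, U.1) Γ(Y, Z) Γ(PrinPart.grMod i n, Z) := .of_algebraMap_smul fun _ _ => rfl
  exact exists_pullSec_isBaseChange i (isQCoh_idealMod (i.ker ^ n)) U.2 hZ hZa _ (idealEquiv _ U)

section Map

variable {Y X Y' X' : Scheme.{u}} {f : Y ⟶ X} [IsClosedImmersion f] {v : X' ⟶ X} {u : Y' ⟶ Y} {f' : Y' ⟶ X'}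

theorem ker_pow_comap (hsq : IsPullback u f' f v) (n : ℕ) : (f.ker ^ n).comap v = f'.ker ^ n := by
  rw [FComplLib.comap_pow, FComplLib.ker_of_isPullback hsq.flip]

theorem ideal_eq_map (hsq : IsPullback u f' f v) (n : ℕ) (U : X.affineOpens) (W' : X'.affineOpens)
    (hW : W'.1 ≤ v ⁻¹ᵁ U.1) :
    (f'.ker ^ n).ideal W' = ((f.ker ^ n).ideal U).map (v.appLE U.1 W'.1 hW).hom := by
  rw [← ker_pow_comap hsq, ModPairLib.ideal_comap]

theorem subschemeι_app_comap {K : X.IdealSheafData} {K' : X'.IdealSheafData} (h : K.comap v ≤ K') (U : X.Opens)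
    (x : Γ(X, U)) (hx : K.subschemeι.app U x = 0) : K'.subschemeι.app (v ⁻¹ᵁ U) (v.app U x) = 0 := by
  let w := Scheme.IdealSheafData.inclusion h ≫ (K.comapIso v).hom ≫ pullback.snd _ _
  have hw : w ≫ K.subschemeι = K'.subschemeι ≫ v := by
    simp [w, ← pullback.condition]
  have h2 := ConcreteCategory.congr_hom (Scheme.Hom.congr_app hw.symm U) x
  refine h2.trans ?_
  rw [CommRingCat.comp_apply]
  show K'.subscheme.presheaf.map _ (w.app _ (K.subschemeι.app U x)) = 0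
  rw [hx, map_zero, map_zero]

/-- The value of the base change map on classes. -/
theorem app_grClass (hsq : IsPullback u f' f v) (n : ℕ)
    (φ : (Scheme.Modules.pullback u).obj (PrinPart.grMod f n) ⟶ PrinPart.grMod f' n)
    (hφ : PrinPart.IsGrMap f' f v u n φ) (U : X.affineOpens) (W' : X'.affineOpens) (hW : W'.1 ≤ v ⁻¹ᵁ U.1)
    (hle : f' ⁻¹ᵁ W'.1 ≤ u ⁻¹ᵁ (f ⁻¹ᵁ U.1)) (k : (f.ker ^ n).ideal U) (k' : (f'.ker ^ n).ideal W')
    (hk : k'.1 = v.appLE U.1 W'.1 hW k.1) :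
    φ.app (f' ⁻¹ᵁ W'.1) (QCoh.pullSec u (PrinPart.grMod f n) hle (grClass f n U le_rfl k)) =
      grClass f' n W' le_rfl k' := by
  let s' := idealEquiv (f.ker ^ n) U k
  obtain ⟨s, hs⟩ := OmegaLib.exists_idealSect_eq (f'.ker ^ n) (v ⁻¹ᵁ U.1) (v.app U.1 (OmegaSh.idealSect _ U.1 s'))
    (subschemeι_app_comap (ker_pow_comap hsq n).le U.1 _ (OmegaLib.subschemeι_app_idealSect _ _ _))
  have hV : f' ⁻¹ᵁ W'.1 ≤ f' ⁻¹ᵁ (v ⁻¹ᵁ U.1) := f'.preimage_mono hW
  have h := hφ.2 U.1 s' s hs (f' ⁻¹ᵁ W'.1) hle hV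
  have h0 : grClass f n U (le_refl (f ⁻¹ᵁ U.1)) k = PrinPart.grSect f n U.1 s' := by
    show (PrinPart.grMod f n).presheaf.map (homOfLE (le_refl _)).op (PrinPart.grSect f n U.1 s') = _
    rw [show (homOfLE (le_refl (f ⁻¹ᵁ U.1))).op = 𝟙 (op (f ⁻¹ᵁ U.1)) from rfl, CategoryTheory.Functor.map_id]
    rfl
  rw [h0]
  refine (Nrm6.hom_app_res φ (homOfLE hle) _).trans (h.trans ?_)
  have h1 : (ClSub.idealMod (f'.ker ^ n)).presheaf.map (homOfLE hW).op s = idealEquiv _ W' k' := by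
    refine OmegaLib.idealSect_injective _ _ ?_
    rw [OmegaLib.idealSect_map, hs, idealSect_idealEquiv, idealSect_idealEquiv, hk, ← CommRingCat.comp_apply]
    rfl
  show _ = (PrinPart.grMod f' n).presheaf.map (homOfLE le_rfl).op (OmegaSh.pullSect f' _ W'.1 (idealEquiv _ W' k'))
  rw [← h1, OmegaSh.pullSect_map]
  exact (Nrm6.resM_resM' _ _ _ _).symm

theorem app_surjective (hsq : IsPullback u f' f v) (n : ℕ)
    (φ : (Scheme.Modules.pullback u).obj (PrinPart.grMod f n) ⟶ PrinPart.grMod f' n)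
    (hφ : PrinPart.IsGrMap f' f v u n φ) (U : X.affineOpens) (W' : X'.affineOpens) (hW : W'.1 ≤ v ⁻¹ᵁ U.1) :
    Function.Surjective (φ.app (f' ⁻¹ᵁ W'.1)) ∧
      ((letI := (v.appLE U.1 W'.1 hW).hom.toAlgebra
        Function.Injective ((((f.ker ^ n).ideal U) : Ideal Γ(X, U.1)).subtype.lTensor Γ(X', W'.1))) →
        Function.Bijective (φ.app (f' ⁻¹ᵁ W'.1))) := by
  haveI : IsClosedImmersion f' := MorphismProperty.of_isPullback hsq inferInstance
  let Z := f ⁻¹ᵁ U.1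
  let Z' := f' ⁻¹ᵁ W'.1
  have hle : Z' ≤ u ⁻¹ᵁ Z := by
    show f' ⁻¹ᵁ W'.1 ≤ (u ≫ f) ⁻¹ᵁ U.1
    rw [hsq.w]
    exact f'.preimage_mono hW
  have hZ : IsAffineOpen Z := U.2.preimage f
  have hZ' : IsAffineOpen Z' := W'.2.preimage f'
  letI aBB' : Algebra Γ(X, U.1) Γ(X', W'.1) := (v.appLE U.1 W'.1 hW).hom.toAlgebra
  letI := (f.appLE U.1 Z le_rfl).hom.toAlgebra
  letI : Module Γ(X, U.1) Γ(PrinPart.grMod f n, Z) := Module.compHom _ (f.appLE U.1 Z le_rfl).hom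
  haveI : IsScalarTower Γ(X, U.1) Γ(Y, Z) Γ(PrinPart.grMod f n, Z) := .of_algebraMap_smul fun _ _ => rfl
  obtain ⟨l, hl, hlbc⟩ := exists_isBaseChange_grClass f n U (le_refl Z) hZ
  letI := (f'.appLE W'.1 Z' le_rfl).hom.toAlgebra
  letI : Module Γ(X', W'.1) Γ(PrinPart.grMod f' n, Z') := Module.compHom _ (f'.appLE W'.1 Z' le_rfl).hom
  haveI : IsScalarTower Γ(X', W'.1) Γ(Y', Z') Γ(PrinPart.grMod f' n, Z') := .of_algebraMap_smul fun _ _ => rfl
  obtain ⟨l', hl', hlbc'⟩ := exists_isBaseChange_grClass f' n W' (le_refl Z') hZ'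
  let N := (Scheme.Modules.pullback u).obj (PrinPart.grMod f n)
  letI : Algebra Γ(Y, Z) Γ(Y', Z') := (u.appLE Z Z' hle).hom.toAlgebra
  letI : Module Γ(Y, Z) Γ(N, Z') := Module.compHom _ (u.appLE Z Z' hle).hom
  haveI : IsScalarTower Γ(Y, Z) Γ(Y', Z') Γ(N, Z') := .of_algebraMap_smul fun _ _ => rfl
  let P : Γ(PrinPart.grMod f n, Z) →ₗ[Γ(Y, Z)] Γ(N, Z') :=
    { toFun := QCoh.pullSec u _ hle
      map_add' := QCoh.pullSec_add u _ hle
      map_smul' := fun r m => QCoh.pullSec_smul u _ hle r m }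
  have hP : IsBaseChange Γ(Y', Z') P :=
    QCoh.isBaseChange_pullback hZ u hZ' (isQCoh_grMod f n) hle (fun _ => rfl) P fun _ => rfl
  let ι := extLin (B' := Γ(X', W'.1)) ((f.ker ^ n).ideal U)
  have hmap := ideal_eq_map hsq n U W' hW
  have key : ∀ k, φ.app Z' (P (l k)) = l' ⟨(ι k).1, hmap.ge (ι k).2⟩ := fun k => by
    rw [hl, hl']
    exact app_grClass hsq n φ hφ U W' hW hle k _ rfl
  have hsurj : Function.Surjective (φ.app Z') := by
    intro z
    induction z using hlbc'.inductionOn with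
    | zero => exact ⟨0, map_zero _⟩
    | smul s z hz =>
      obtain ⟨y, rfl⟩ := hz
      exact ⟨s • y, Scheme.Modules.Hom.app_smul φ s y⟩
    | add a b ha hb =>
      obtain ⟨y, rfl⟩ := ha
      obtain ⟨y', rfl⟩ := hb
      exact ⟨y + y', map_add _ _ _⟩
    | tmul k' =>
      obtain ⟨x, hx⟩ := k'
      have hx' := hmap.le hx
      induction hx' using Submodule.span_induction with
      | zero => exact ⟨0, (map_zero _).trans (map_zero l').symm⟩
      | mem a ha =>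
        obtain ⟨k, hk, rfl⟩ := ha
        exact ⟨P (l ⟨k, hk⟩), key ⟨k, hk⟩⟩
      | add a b ha' hb' ha hb =>
        obtain ⟨y, hy⟩ := ha (hmap.ge ha')
        obtain ⟨y', hy'⟩ := hb (hmap.ge hb')
        exact ⟨y + y', by rw [map_add, hy, hy', ← map_add]; rfl⟩
      | smul c a ha' ha =>
        obtain ⟨y, hy⟩ := ha (hmap.ge ha')
        refine ⟨f'.appLE W'.1 Z' le_rfl c • y, ?_⟩
        rw [Scheme.Modules.Hom.app_smul, hy]
        exact (map_smul l' c ⟨a, hmap.ge ha'⟩).symm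
  refine ⟨hsurj, fun hinj => ?_⟩
  have hι := isBaseChange_extLin ((f.ker ^ n).ideal U) hinj
  letI aBY' : Algebra Γ(X, U.1) Γ(Y', Z') :=
    ((v.appLE U.1 W'.1 hW) ≫ f'.appLE W'.1 Z' le_rfl).hom.toAlgebra
  letI : Module Γ(X, U.1) Γ(PrinPart.grMod f' n, Z') :=
    Module.compHom _ ((v.appLE U.1 W'.1 hW) ≫ f'.appLE W'.1 Z' le_rfl).hom
  letI : Module Γ(X, U.1) Γ(N, Z') := Module.compHom _ ((v.appLE U.1 W'.1 hW) ≫ f'.appLE W'.1 Z' le_rfl).hom
  haveI : IsScalarTower Γ(X, U.1) Γ(X', W'.1) Γ(Y', Z') := .of_algebraMap_eq fun _ => rfl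
  have hcomp : f.appLE U.1 Z le_rfl ≫ u.appLE Z Z' hle = v.appLE U.1 W'.1 hW ≫ f'.appLE W'.1 Z' le_rfl := by
    rw [Scheme.Hom.appLE_comp_appLE, Scheme.Hom.appLE_comp_appLE]
    exact CommRingCat.hom_ext (RingHom.ext fun r => ConcreteCategory.congr_hom (appLE_congr_hom' hsq.w _ _ _ _) r)
  haveI : IsScalarTower Γ(X, U.1) Γ(Y, Z) Γ(Y', Z') :=
    .of_algebraMap_eq fun r => (ConcreteCategory.congr_hom hcomp r).symm
  haveI : IsScalarTower Γ(X, U.1) Γ(Y, Z) Γ(N, Z') := .of_algebraMap_smul fun r m => by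
    show u.appLE Z Z' hle (f.appLE U.1 Z le_rfl r) • m = (v.appLE U.1 W'.1 hW ≫ f'.appLE W'.1 Z' le_rfl) r • m
    rw [← CommRingCat.comp_apply, hcomp]
  haveI : IsScalarTower Γ(X, U.1) Γ(Y', Z') Γ(N, Z') := .of_algebraMap_smul fun _ _ => rfl
  haveI : IsScalarTower Γ(X, U.1) Γ(Y', Z') Γ(PrinPart.grMod f' n, Z') := .of_algebraMap_smul fun _ _ => rfl
  haveI : IsScalarTower Γ(X, U.1) Γ(X', W'.1) Γ(PrinPart.grMod f' n, Z') := .of_algebraMap_smul fun _ _ => rfl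
  have h1 : IsBaseChange Γ(Y', Z') ((P.restrictScalars Γ(X, U.1)).comp l) := hlbc.comp hP
  let e' : (((f.ker ^ n).ideal U).map (algebraMap Γ(X, U.1) Γ(X', W'.1)) : Ideal Γ(X', W'.1)) ≃ₗ[Γ(X', W'.1)]
      ((f'.ker ^ n).ideal W') := LinearEquiv.ofEq _ _ hmap.symm
  have h2 : IsBaseChange Γ(Y', Z') (((l'.comp e'.toLinearMap).restrictScalars Γ(X, U.1)).comp ι) :=
    hι.comp (IsBaseChange.comp_equiv _ l' hlbc')
  have hq : ∀ t, φ.app Z' (h1.equiv t) = h2.equiv t := by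
    intro t
    induction t using TensorProduct.induction_on with
    | zero => simp only [map_zero]
    | add a b ha hb => simp only [map_add, ha, hb]
    | tmul s k =>
      rw [IsBaseChange.equiv_tmul, IsBaseChange.equiv_tmul, Scheme.Modules.Hom.app_smul]
      exact congrArg (s • ·) (key k)
  exact ⟨fun a b h => by
      obtain ⟨a, rfl⟩ := h1.equiv.surjective a
      obtain ⟨b, rfl⟩ := h1.equiv.surjective b
      rw [hq, hq] at h
      exact congrArg _ (h2.equiv.injective h), hsurj⟩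

end Map

theorem epi_of_surjective_cover {X : Scheme.{u}} {M N : X.Modules} (hN : Coh.IsQCoh N) (φ : M ⟶ N)
    (h : ∀ x : X, ∃ W : X.Opens, IsAffineOpen W ∧ x ∈ W ∧ Function.Surjective (φ.app W)) : Epi φ := by
  rw [Synt29.OmegaStalk.epi_iff_stalk]
  intro x z
  obtain ⟨W, hW, hxW, hs⟩ := h x
  obtain ⟨O, hO, s, rfl⟩ := Synt29.OmegaStalk.gm_surjective N z
  obtain ⟨g, hg, hxg⟩ := hW.exists_basicOpen_le (V := O) ⟨x, hO⟩ hxW
  letI := QCoh.basicModule g N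
  haveI := QCoh.isLocalizedModule_basicRes g hN hW
  obtain ⟨⟨y, c⟩, hy⟩ := IsLocalizedModule.surj (Submonoid.powers g) (QCoh.basicRes g N) (N.presheaf.map (homOfLE hg).op s)
  obtain ⟨m, rfl⟩ := hs y
  obtain ⟨_, j, rfl⟩ := c
  haveI := hW.isLocalization_basicOpen g
  have hu : IsUnit (algebraMap Γ(X, W) Γ(X, X.basicOpen g) (g ^ j)) :=
    IsLocalization.map_units Γ(X, X.basicOpen g) (⟨g ^ j, j, rfl⟩ : Submonoid.powers g)
  refine ⟨Synt29.OmegaStalk.gm M hxg (hu.unit⁻¹.val • M.presheaf.map (homOfLE (X.basicOpen_le g)).op m),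
    (stalkFunctor_map_gm φ hxg _).trans ?_⟩
  rw [Scheme.Modules.Hom.app_smul, Nrm6.hom_app_res]
  have hy' : algebraMap Γ(X, W) Γ(X, X.basicOpen g) (g ^ j) • N.presheaf.map (homOfLE hg).op s =
      N.presheaf.map (homOfLE (X.basicOpen_le g)).op (φ.app W m) := hy
  rw [← hy', ← mul_smul, IsUnit.val_inv_mul, one_smul]
  exact Synt29.OmegaStalk.gm_res N (homOfLE hg) hxg s

section BaseChange

variable {Y X Y' X' : Scheme.{u}} {f : Y ⟶ X} [IsClosedImmersion f] {v : X' ⟶ X} {u : Y' ⟶ Y} {f' : Y' ⟶ X'}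

theorem epi_grMap (hsq : IsPullback u f' f v) (n : ℕ)
    (φ : (Scheme.Modules.pullback u).obj (PrinPart.grMod f n) ⟶ PrinPart.grMod f' n)
    (hφ : PrinPart.IsGrMap f' f v u n φ) : Epi φ := by
  haveI : IsClosedImmersion f' := MorphismProperty.of_isPullback hsq inferInstance
  refine epi_of_surjective_cover (isQCoh_grMod f' n) φ fun y => ?_
  obtain ⟨V, W, hW, e⟩ := exists_affine_pair v (f' y)
  exact ⟨f' ⁻¹ᵁ W.1, W.2.preimage f', hW, (app_surjective hsq n φ hφ V W e).1⟩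

theorem isIso_grMap_of_injective (hsq : IsPullback u f' f v) (n : ℕ)
    (φ : (Scheme.Modules.pullback u).obj (PrinPart.grMod f n) ⟶ PrinPart.grMod f' n)
    (hφ : PrinPart.IsGrMap f' f v u n φ)
    (h : ∀ y : Y', ∃ (U : X.affineOpens) (W' : X'.affineOpens) (hW : W'.1 ≤ v ⁻¹ᵁ U.1), f' y ∈ W'.1 ∧
      (letI := (v.appLE U.1 W'.1 hW).hom.toAlgebra
       Function.Injective ((((f.ker ^ n).ideal U) : Ideal Γ(X, U.1)).subtype.lTensor Γ(X', W'.1)))) : IsIso φ := by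
  haveI : IsClosedImmersion f' := MorphismProperty.of_isPullback hsq inferInstance
  refine isIso_of_bijective_cover (QCoh.isQCoh_pullback u (isQCoh_grMod f n)) (isQCoh_grMod f' n) φ fun y => ?_
  obtain ⟨U, W', hW, hy, hinj⟩ := h y
  exact ⟨f' ⁻¹ᵁ W'.1, W'.2.preimage f', hy, (app_surjective hsq n φ hφ U W' hW).2 hinj⟩

theorem isIso_grMap_of_flat [Flat v] (hsq : IsPullback u f' f v) (n : ℕ)
    (φ : (Scheme.Modules.pullback u).obj (PrinPart.grMod f n) ⟶ PrinPart.grMod f' n)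
    (hφ : PrinPart.IsGrMap f' f v u n φ) : IsIso φ := by
  refine isIso_grMap_of_injective hsq n φ hφ fun y => ?_
  obtain ⟨U, W', hW, e⟩ := exists_affine_pair v (f' y)
  letI := (v.appLE U.1 W'.1 e).hom.toAlgebra
  haveI : Module.Flat Γ(X, U.1) Γ(X', W'.1) := v.flat_appLE U.2 W'.2 e
  exact ⟨U, W', e, hW, Module.Flat.lTensor_preserves_injective_linearMap _ Subtype.val_injective⟩

end BaseChange

section Section_

variable {X Y X' Y' : Scheme.{u}} {g : X ⟶ Y} {f : Y ⟶ X} {u : Y' ⟶ Y} {v : X' ⟶ X} {g' : X' ⟶ Y'} {f' : Y' ⟶ X'}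

theorem isPullback_section (hf : f ≫ g = 𝟙 Y) (hsq : IsPullback v g' g u) (hf' : f' ≫ g' = 𝟙 Y')
    (hf'v : f' ≫ v = u ≫ f) : IsPullback u f' f v := by
  have h : IsPullback u (f' ≫ g') (f ≫ g) u := by
    rw [hf, hf']
    exact IsPullback.of_id_snd
  exact IsPullback.of_bot h hf'v.symm hsq

theorem isIso_grMap_section [IsClosedImmersion f] (hf : f ≫ g = 𝟙 Y) (hsq : IsPullback v g' g u)
    (hf' : f' ≫ g' = 𝟙 Y') (hf'v : f' ≫ v = u ≫ f) (n : ℕ)
    (hflat : ∀ k < n, k = 0 ∨ FlatMod.IsFlat (PrinPart.grMod f k))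
    (φ : (Scheme.Modules.pullback u).obj (PrinPart.grMod f n) ⟶ PrinPart.grMod f' n)
    (hφ : PrinPart.IsGrMap f' f v u n φ) : IsIso φ := by
  refine isIso_grMap_of_injective (isPullback_section hf hsq hf' hf'v) n φ hφ fun y' => ?_
  obtain ⟨V₁, U₀, hyU₀, e₀⟩ := exists_affine_pair g (f (u y'))
  have hyV : u y' ∈ V₁.1 := by
    have := e₀ hyU₀
    rwa [Scheme.Hom.mem_preimage, ← Scheme.Hom.comp_apply, hf] at this
  obtain ⟨r, hr, hyr⟩ := V₁.2.exists_basicOpen_le (V := f ⁻¹ᵁ U₀.1) ⟨u y', hyU₀⟩ hyV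
  let V := Y.basicOpen r
  have hUa : IsAffineOpen (U₀.1 ⊓ g ⁻¹ᵁ V) := by
    rw [show U₀.1 ⊓ g ⁻¹ᵁ V = X.basicOpen (g.appLE V₁.1 U₀.1 e₀ r) by
      rw [Scheme.Hom.appLE, CommRingCat.comp_apply, Scheme.basicOpen_res, ← Scheme.preimage_basicOpen]]
    exact U₀.2.basicOpen _
  let U : X.affineOpens := ⟨U₀.1 ⊓ g ⁻¹ᵁ V, hUa⟩
  have hgf : f ⁻¹ᵁ (g ⁻¹ᵁ V) = V := by rw [← Scheme.Hom.comp_preimage, hf]; rfl
  have hZ : f ⁻¹ᵁ U.1 = V := le_antisymm (fun z hz => hgf.le hz.2) fun z hz => ⟨hr hz, hgf.ge hz⟩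
  let Z := f ⁻¹ᵁ U.1
  have hgU : U.1 ≤ g ⁻¹ᵁ Z := by rw [show Z = V from hZ]; exact inf_le_right
  have hZa : IsAffineOpen Z := U.2.preimage f
  obtain ⟨_, ⟨V', hV', rfl⟩, hyV', hle⟩ := Y'.isBasis_affineOpens.exists_subset_of_mem_open
    (show y' ∈ u ⁻¹ᵁ Z from (show u y' ∈ Z from hZ.ge hyr)) (u ⁻¹ᵁ Z).isOpen
  have hle' : V' ≤ u ⁻¹ᵁ Z := hle
  let W : X'.Opens := v ⁻¹ᵁ U.1 ⊓ g' ⁻¹ᵁ V'
  have hW : IsAffineOpen W := by
    haveI : IsAffine _ := hZa
    haveI : IsAffine _ := hUa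
    haveI : IsAffine _ := hV'
    exact .of_isIso (Scheme.Hom.isPullback_resLE hsq hle' hgU (UY := W) rfl).isoPullback.hom
  have hfy : f' y' ∈ W := by
    refine ⟨?_, ?_⟩
    · show v (f' y') ∈ U.1
      rw [← Scheme.Hom.comp_apply, hf'v, Scheme.Hom.comp_apply]
      exact (show u y' ∈ Z from hZ.ge hyr)
    · show g' (f' y') ∈ V'
      rw [← Scheme.Hom.comp_apply, hf']
      exact hyV'
  refine ⟨U, ⟨W, hW⟩, inf_le_left, hfy, ?_⟩
  have hpo := (isIso_pushoutSection_iff hsq hle' hgU (UY := W) rfl).mp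
    (isIso_pushoutSection_of_isAffineOpen hsq hle' hgU rfl hZa hV' hUa)
  letI : Algebra Γ(Y, Z) Γ(X, U.1) := (g.appLE Z U.1 hgU).hom.toAlgebra
  letI : Algebra Γ(Y, Z) Γ(Y', V') := (u.appLE Z V' hle').hom.toAlgebra
  letI : Algebra Γ(X, U.1) Γ(X', W) := (v.appLE U.1 W inf_le_left).hom.toAlgebra
  letI : Algebra Γ(Y', V') Γ(X', W) := (g'.appLE V' W inf_le_right).hom.toAlgebra
  letI : Algebra Γ(Y, Z) Γ(X', W) := (g.appLE Z U.1 hgU ≫ v.appLE U.1 W inf_le_left).hom.toAlgebra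
  haveI : IsScalarTower Γ(Y, Z) Γ(X, U.1) Γ(X', W) := .of_algebraMap_eq fun _ => rfl
  haveI : IsScalarTower Γ(Y, Z) Γ(Y', V') Γ(X', W) := .of_algebraMap_eq fun r => congr($(hpo.w).hom r)
  haveI : Algebra.IsPushout Γ(Y, Z) Γ(Y', V') Γ(X, U.1) Γ(X', W) :=
    CommRingCat.isPushout_iff_isPushout.mp hpo.flip
  let σ := (f.appLE U.1 Z le_rfl).hom
  have hσ : ∀ a, σ (algebraMap Γ(Y, Z) Γ(X, U.1) a) = a := fun a => by
    show f.appLE U.1 Z le_rfl (g.appLE Z U.1 hgU a) = a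
    rw [← CommRingCat.comp_apply, Scheme.Hom.appLE_comp_appLE,
      appLE_congr_hom' hf Z Z _ (le_refl Z)]
    exact id_appLE_self Z _ a
  have hkerI : RingHom.ker σ = f.ker.ideal U := by
    rw [FComplLib.ideal_ker]
    show RingHom.ker (f.appLE U.1 Z le_rfl).hom = _
    rw [← Scheme.Hom.app_eq_appLE]
  have hpow : ∀ k, (f.ker ^ k).ideal U = RingHom.ker σ ^ k := fun k => by
    rw [hkerI, Scheme.IdealSheafData.ideal_pow]; rfl
  haveI : Module.Flat Γ(Y, Z) (Γ(X, U.1) ⧸ (f.ker ^ n).ideal U) := by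
    rw [hpow]
    refine flat_quot_pow σ hσ n fun k hk => ?_
    rcases hflat k hk with rfl | hf0
    · let l : (RingHom.ker σ ^ 0 : Ideal Γ(X, U.1)) →+ Γ(Y, Z) := AddMonoidHom.mk' (fun x => σ x.1) (fun a b => map_add σ a.1 b.1)
      refine ⟨Γ(Y, Z), inferInstance, inferInstance, inferInstance, l,
        fun a => ⟨⟨algebraMap Γ(Y, Z) Γ(X, U.1) a, by rw [pow_zero, Ideal.one_eq_top]; trivial⟩, hσ a⟩,
        fun b x => map_mul σ b x.1, fun x => ?_⟩
      rw [zero_add, pow_one, RingHom.mem_ker]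
      rfl
    letI := (f.appLE U.1 Z le_rfl).hom.toAlgebra
    letI : Module Γ(X, U.1) Γ(PrinPart.grMod f k, Z) := Module.compHom _ (f.appLE U.1 Z le_rfl).hom
    haveI : IsScalarTower Γ(X, U.1) Γ(Y, Z) Γ(PrinPart.grMod f k, Z) := .of_algebraMap_smul fun _ _ => rfl
    obtain ⟨l, hl, hlbc⟩ := exists_isBaseChange_grClass f k U (le_refl Z) hZa
    haveI := (QCoh.flat_sections_iff (isQCoh_grMod f k) hZa).2 fun x _ => hf0 x
    let K := (f.ker ^ k).ideal U
    have hsl : Function.Surjective l := by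
      intro z
      induction z using hlbc.inductionOn with
      | zero => exact ⟨0, map_zero l⟩
      | tmul m => exact ⟨m, rfl⟩
      | smul s z hz =>
        obtain ⟨m, rfl⟩ := hz
        exact ⟨algebraMap Γ(Y, Z) Γ(X, U.1) s • m, by rw [map_smul]; show σ _ • l m = _; rw [hσ]⟩
      | add a b ha hb =>
        obtain ⟨m, rfl⟩ := ha
        obtain ⟨m', rfl⟩ := hb
        exact ⟨m + m', map_add l m m'⟩
    let S : Submodule Γ(X, U.1) K := RingHom.ker σ • ⊤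
    have hkl : ∀ m : K, l m = 0 ↔ m.1 ∈ RingHom.ker σ ^ (k + 1) := by
      intro m
      have hS : m ∈ S ↔ m.1 ∈ RingHom.ker σ ^ (k + 1) := by
        rw [Submodule.mem_smul_top_iff, pow_succ', ← hpow k, smul_eq_mul]
      constructor
      · intro h0
        letI : Module Γ(Y, Z) (K ⧸ S) := Module.compHom _ (g.appLE Z U.1 hgU).hom
        haveI : IsScalarTower Γ(X, U.1) Γ(Y, Z) (K ⧸ S) := .of_algebraMap_smul fun b q => by
          obtain ⟨x, rfl⟩ := Submodule.mkQ_surjective S q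
          show g.appLE Z U.1 hgU (σ b) • S.mkQ x = b • S.mkQ x
          rw [← map_smul, ← map_smul, ← sub_eq_zero, ← map_sub, ← sub_smul]
          refine (Submodule.Quotient.mk_eq_zero S).2 (Submodule.smul_mem_smul ?_ Submodule.mem_top)
          rw [RingHom.mem_ker, map_sub]
          exact sub_eq_zero.2 (hσ (σ b))
        have := hlbc.lift_eq S.mkQ m
        rw [h0, map_zero] at this
        exact hS.1 ((Submodule.Quotient.mk_eq_zero S).1 this.symm)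
      · intro hm
        refine Submodule.smul_induction_on (p := fun x => l x = 0) (hS.2 hm) (fun b hb x _ => ?_) (fun a b ha hb => ?_)
        · rw [map_smul]
          show σ b • l x = 0
          rw [RingHom.mem_ker.1 hb, zero_smul]
        · rw [map_add, ha, hb, add_zero]
    refine ⟨Γ(PrinPart.grMod f k, Z), inferInstance, inferInstance, inferInstance,
      l.toAddMonoidHom.comp (LinearEquiv.ofEq _ _ (hpow k).symm).toAddMonoidHom, ?_, ?_, ?_⟩
    · exact hsl.comp (LinearEquiv.ofEq _ _ (hpow k).symm).surjective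
    · intro b x
      show l ((LinearEquiv.ofEq _ _ (hpow k).symm) (b • x)) = _
      rw [map_smul, map_smul]
      rfl
    · intro x
      exact hkl (LinearEquiv.ofEq _ _ (hpow k).symm x)
  exact injective_lTensor_of_flat_quot _ Γ(Y, Z) Γ(Y', V')

end Section_

end Groth.Agent.PPSheaf
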