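import Groth.Agent.PPSheaf.Crit

/-!
# Composition of differential operators, order one operators, and `δ`
-/

set_option autoImplicit false

universe u

open CategoryTheory CategoryTheory.Limits AlgebraicGeometry TopologicalSpace Opposite

namespace Groth.Agent.PPSheaf

variable {X S : Scheme.{u}} (f : X ⟶ S)

/-- Algebras over a lift of the integers. -/
@[instance_reducible] def algULift (B : Type u) [CommRing B] : Algebra (ULift.{u} ℤ) B :=
  { toSMul := ⟨fun r b => r.down • b⟩
    algebraMap := (Int.castRingHom B).comp (ULift.ringEquiv (R := ℤ)).toRingHom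
    commutes' := fun r b => mul_comm _ _
    smul_def' := fun r b => zsmul_eq_mul b r.down }

attribute [local instance] algULift

instance isScalarTower_uLift (B M : Type u) [CommRing B] [AddCommGroup M] [Module B M] :
    IsScalarTower (ULift.{u} ℤ) B M :=
  ⟨fun r b m => smul_assoc r.down b m⟩

/-- An additive map as a map linear over a lift of the integers. -/
def zLin {M N : Type u} [AddCommGroup M] [AddCommGroup N] (φ : M →+ N) : M →ₗ[ULift.{u} ℤ] N where
  toFun := φ
  map_add' := map_add φ
  map_smul' r x := map_zsmul φ r.down x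

theorem altVanishes_iff (n : ℕ) {F G : X.Modules} (D : F.presheaf ⟶ G.presheaf) :
    AltVanishes n D ↔ ∀ U : X.Opens,
      Diff16.IsDiffOpLE (ULift.{u} ℤ) Γ(X, U) Γ(F, U) Γ(G, U) n (zLin (D.app (op U)).hom) := by
  refine forall_congr' fun U => ?_
  rw [DiffOps.isDiffOpLE_iff_altSum]
  refine forall₂_congr fun a t => ?_
  rw [DiffOps.altSum, Finset.powerset_univ]
  simp only [← Finset.compl_eq_univ_sdiff]
  rfl

/-- The composite of operators of orders `n` and `n'` has order at most `n + n'`. -/
theorem isDiffOpLE_comp {F G H : X.Modules} {n n' : ℕ} (D : F.presheaf ⟶ G.presheaf)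
    (D' : G.presheaf ⟶ H.presheaf) (hD : PrinPart.IsDiffOpLE f F G n D)
    (hD' : PrinPart.IsDiffOpLE f G H n' D') : PrinPart.IsDiffOpLE f F H (n + n') (D ≫ D') := by
  have h1 := isBaseLinear_of_isDiffOpLE f n D hD
  have h2 := isBaseLinear_of_isDiffOpLE f n' D' hD'
  refine isDiffOpLE_of_alt f (n + n') _ (fun V s U hU t => ?_) ?_
  · show D'.app (op U) (D.app (op U) _) = _
    rw [h1 V s U hU t, h2 V s U hU]
    rfl
  · rw [altVanishes_iff]
    intro U
    exact DiffOps.isDiffOpLE_comp ((altVanishes_iff n D).1 (alt_of_isDiffOpLE f n D hD) U)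
      ((altVanishes_iff n' D').1 (alt_of_isDiffOpLE f n' D' hD') U)

/-- `d^n` is a differential operator of order at most `n`. -/
theorem isDiffOpLE_dP (n : ℕ) (F : X.Modules) :
    PrinPart.IsDiffOpLE f F (PrinPart.PMod f n F) n (PrinPart.dPHom f n F) :=
  ⟨𝟙 _, fun U t => rfl⟩

theorem existsUnique_delta (n n' : ℕ) :
    ∃! δ : PrinPart.P f (n + n') ⟶ PrinPart.PMod f n' (PrinPart.P f n),
      ∀ (U : X.Opens) (t : Γ(X, U)),
        δ.app U (PrinPart.dn f (n + n') U t) = PrinPart.dP f n' (PrinPart.P f n) U (PrinPart.dn f n U t) := by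
  obtain ⟨δ, hδ⟩ := isDiffOpLE_comp f (PrinPart.dPHom f n (Coh.structureModule X))
    (PrinPart.dPHom f n' (PrinPart.P f n)) (isDiffOpLE_dP f n _) (isDiffOpLE_dP f n' _)
  refine ⟨δ, fun U t => (hδ U (OmegaSh.strSect X U t)).symm, fun δ' hδ' => ?_⟩
  exact hom_ext_dP f (n + n') _ _ fun U t => (hδ' U t).trans (hδ U t)

section OrderOne

variable (G : X.Modules) (D : (Coh.structureModule X).presheaf ⟶ G.presheaf)

/-- The value of `D` at one. -/
noncomputable def atOne (U : X.Opens) : Γ(G, U) := D.app (op U) (OmegaSh.strSect X U 1)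

theorem atOne_map {U V : X.Opens} (i : V ⟶ U) : G.presheaf.map i.op (atOne G D U) = atOne G D V := by
  refine (ConcreteCategory.congr_hom (D.naturality i.op) (OmegaSh.strSect X U 1)).symm.trans ?_
  exact congrArg (D.app (op V)) (show OmegaSh.strSect X V (X.presheaf.map i.op 1) = _ from by rw [map_one])

/-- `a ↦ a • D 1`. -/
noncomputable def linApp (U : X.Opens) : Γ(Coh.structureModule X, U) →+ Γ(G, U) :=
  AddMonoidHom.mk' (fun a => OmegaSh.fnSect X U a • atOne G D U) fun a b => by rw [map_add, add_smul]

theorem linApp_map {U V : X.Opens} (i : V ⟶ U) (a : Γ(Coh.structureModule X, U)) :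
    linApp G D V ((Coh.structureModule X).presheaf.map i.op a) = G.presheaf.map i.op (linApp G D U a) := by
  show _ = G.presheaf.map i.op (OmegaSh.fnSect X U a • atOne G D U)
  rw [Scheme.Modules.map_smul, atOne_map]
  rfl

/-- The linear part of an operator of order one. -/
noncomputable def linPart : Coh.structureModule X ⟶ G :=
  ⟨PresheafOfModules.homMk
    { app := fun U => AddCommGrpCat.ofHom (linApp G D U.unop)
      naturality := fun U V i => by
        ext a
        exact linApp_map G D i.unop a }
    fun U r a => mul_smul (show Γ(X, U.unop) from r) (OmegaSh.fnSect X U.unop a) (atOne G D U.unop)⟩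

theorem linPart_app (U : X.Opens) (a : Γ(X, U)) :
    (linPart G D).app U (OmegaSh.strSect X U a) = a • atOne G D U := rfl

theorem app_strSect_eq_smul (v : Coh.structureModule X ⟶ G) (U : X.Opens) (a : Γ(X, U)) :
    v.app U (OmegaSh.strSect X U a) = a • v.app U (OmegaSh.strSect X U 1) := by
  rw [← Scheme.Modules.Hom.app_smul, ← OmegaSh.strSect_mul, mul_one]

theorem existsUnique_hom_add_derivation
    (hD : PrinPart.IsDiffOpLE f (Coh.structureModule X) G 1 D) :
    ∃! p : (Coh.structureModule X ⟶ G) × OmegaSh.Der f G,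
      ∀ (U : X.Opens) (a : Γ(X, U)),
        D.app (op U) (OmegaSh.strSect X U a) = p.1.app U (OmegaSh.strSect X U a) + p.2.app U a := by
  have hlin := isBaseLinear_of_isDiffOpLE f 1 D hD
  have halt := (altVanishes_iff 1 D).1 (alt_of_isDiffOpLE f 1 D hD)
  let dd : ∀ U : X.Opens, Γ(X, U) →+ Γ(G, U) := fun U =>
    (D.app (op U)).hom.comp (OmegaSh.strSect X U) -
      AddMonoidHom.mk' (fun a => a • atOne G D U) (fun a b => add_smul a b _)
  have hmul : ∀ (U : X.Opens) (a b : Γ(X, U)), dd U (a * b) = a • dd U b + b • dd U a := fun U a b => by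
    have h := halt U a b (OmegaSh.strSect X U 1)
    simp only [DiffOps.commutator_apply, ← OmegaSh.strSect_mul, mul_one] at h
    replace h : D.app (op U) (OmegaSh.strSect X U (a * b)) - a • D.app (op U) (OmegaSh.strSect X U b) =
        b • (D.app (op U) (OmegaSh.strSect X U a) - a • atOne G D U) := h
    show D.app (op U) (OmegaSh.strSect X U (a * b)) - (a * b) • atOne G D U =
      a • (D.app (op U) (OmegaSh.strSect X U b) - b • atOne G D U) +
        b • (D.app (op U) (OmegaSh.strSect X U a) - a • atOne G D U)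
    rw [← h, smul_sub, smul_smul]
    abel
  have hmap : ∀ (U V : X.Opens) (i : V ⟶ U) (a : Γ(X, U)),
      dd V (X.presheaf.map i.op a) = G.presheaf.map i.op (dd U a) := fun U V i a => by
    show D.app (op V) _ - X.presheaf.map i.op a • atOne G D V = G.presheaf.map i.op (_ - a • atOne G D U)
    rw [map_sub, Scheme.Modules.map_smul, atOne_map]
    congr 1
    exact ConcreteCategory.congr_hom (D.naturality i.op) (OmegaSh.strSect X U a)
  have happ : ∀ (V : S.Opens) (c : Γ(S, V)), dd (f ⁻¹ᵁ V) (f.app V c) = 0 := fun V c => by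
    have h := hlin V c (f ⁻¹ᵁ V) le_rfl (OmegaSh.strSect X (f ⁻¹ᵁ V) 1)
    rw [show (homOfLE (le_refl (f ⁻¹ᵁ V))).op = 𝟙 (op (f ⁻¹ᵁ V)) from rfl, X.presheaf.map_id] at h
    simp only [CommRingCat.id_apply, ← OmegaSh.strSect_mul, mul_one] at h
    exact sub_eq_zero.2 h
  let δ : OmegaSh.Der f G :=
    { d := fun {U} => dd U.unop
      d_mul := fun {U} a b => hmul U.unop a b
      d_map := fun {U V} i a => hmap U.unop V.unop i.unop a
      d_app := fun {V} c => happ V.unop c }
  refine ⟨(linPart G D, δ), fun U a => ?_, fun p hp => ?_⟩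
  · rw [linPart_app]
    exact (add_sub_cancel _ _).symm
  · have h1 : ∀ U, p.1.app U (OmegaSh.strSect X U 1) = atOne G D U := fun U => by
      have h := hp U 1
      have h0 : p.2.app U 1 = 0 := by
        have := p.2.d_mul (X := op U) 1 1
        rw [mul_one, one_smul, left_eq_add] at this
        exact this
      rw [h0, add_zero] at h
      exact h.symm
    have hv : p.1 = linPart G D := Scheme.Modules.hom_ext _ _ fun U => by
      ext a
      exact (app_strSect_eq_smul G p.1 U (OmegaSh.fnSect X U a)).trans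
        (congrArg (OmegaSh.fnSect X U a • ·) (h1 U))
    refine Prod.ext hv (PresheafOfModules.Derivation.ext ?_)
    funext U
    refine AddMonoidHom.ext fun a => ?_
    have h := hp U.unop a
    rw [hv, linPart_app] at h
    show p.2.app U.unop a = D.app (op U.unop) (OmegaSh.strSect X U.unop a) - (show Γ(X, U.unop) from a) • atOne G D U.unop
    exact eq_sub_of_add_eq' h.symm

end OrderOne

end Groth.Agent.PPSheaf
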