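import Groth.Prelude.Def_OmegaPn
import Mathlib.RingTheory.Kaehler.Basic
import Mathlib.AlgebraicGeometry.Morphisms.Flat
import Mathlib.AlgebraicGeometry.Morphisms.ClosedImmersion

/-!
# Principal parts over affine charts

Over affine opens `U` of `X` and `V` of `S` with `U ≤ f⁻¹ V`, the functions on the `n`-th neighbourhood of
the diagonal are `(B ⊗[A] B) / I^(n+1)`.
-/

set_option autoImplicit false

universe u

open CategoryTheory CategoryTheory.Limits AlgebraicGeometry TopologicalSpace Opposite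
open scoped TensorProduct

namespace Groth.Agent.PPSheaf

variable {X S : Scheme.{u}} (f : X ⟶ S)

theorem appLE_congr_hom {Y Z : Scheme.{u}} {g h : Y ⟶ Z} (e : g = h) (U : Z.Opens) (W : Y.Opens)
    (hg : W ≤ g ⁻¹ᵁ U) (t : Γ(Z, U)) : g.appLE U W hg t = h.appLE U W (e ▸ hg) t := by
  subst e; rfl

theorem id_appLE_self {Y : Scheme.{u}} (U : Y.Opens) (h : U ≤ (𝟙 Y : Y ⟶ Y) ⁻¹ᵁ U) (b : Γ(Y, U)) :
    (𝟙 Y : Y ⟶ Y).appLE U U h b = b := by
  rw [show (𝟙 Y : Y ⟶ Y).appLE U U h = (𝟙 Y : Y ⟶ Y).app U from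
    Scheme.Hom.appLE_eq_app (𝟙 Y : Y ⟶ Y) (U := U)]
  simp

theorem map_injective_of_eq {Y : Scheme.{u}} {U U' : Y.Opens} (h : U = U') (i : U' ⟶ U) :
    Function.Injective (Y.presheaf.map i.op) := by
  subst h
  rw [show i = 𝟙 U from Subsingleton.elim _ _, op_id, Y.presheaf.map_id]
  exact fun _ _ => id

/-- The open `U ×_V U` of the fibre square. -/
noncomputable abbrev sqOpen (U : X.Opens) : (pullback f f : Scheme.{u}).Opens :=
  pullback.fst f f ⁻¹ᵁ U ⊓ pullback.snd f f ⁻¹ᵁ U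

theorem diag_preimage_sqOpen (U : X.Opens) : pullback.diagonal f ⁻¹ᵁ sqOpen f U = U := by
  ext x
  change (pullback.fst f f (pullback.diagonal f x) ∈ U ∧ pullback.snd f f (pullback.diagonal f x) ∈ U) ↔ x ∈ U
  rw [← Scheme.Hom.comp_apply, ← Scheme.Hom.comp_apply, pullback.diagonal_fst, pullback.diagonal_snd]
  exact and_self_iff

variable (V : S.affineOpens) (U : X.affineOpens) (e : U.1 ≤ f ⁻¹ᵁ V.1)

include e

theorem exists_sqEquiv [Algebra Γ(S, V.1) Γ(X, U.1)]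
    (halg : algebraMap Γ(S, V.1) Γ(X, U.1) = (f.appLE V.1 U.1 e).hom) :
    ∃ φ : Γ(X, U.1) ⊗[Γ(S, V.1)] Γ(X, U.1) ≃+* Γ((pullback f f : Scheme.{u}), sqOpen f U.1),
      (∀ b, φ (b ⊗ₜ 1) = (pullback.fst f f).appLE U.1 (sqOpen f U.1) inf_le_left b) ∧
      (∀ b, φ (1 ⊗ₜ b) = (pullback.snd f f).appLE U.1 (sqOpen f U.1) inf_le_right b) := by
  have H := IsPullback.of_hasPullback f f
  haveI := isIso_pushoutSection_of_isAffineOpen H e e (UY := sqOpen f U.1) rfl V.2 U.2 U.2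
  have h1 := (isIso_pushoutSection_iff H e e (UY := sqOpen f U.1) rfl).1 ‹_›
  have h2 := CommRingCat.isPushout_tensorProduct Γ(S, V.1) Γ(X, U.1) Γ(X, U.1)
  rw [halg] at h2
  let i := h2.isoIsPushout _ _ h1
  refine ⟨i.commRingCatIsoToRingEquiv, fun b => ?_, fun b => ?_⟩
  · have h3 := h2.inl_isoIsPushout_hom _ _ h1
    exact congr($h3 b)
  · have h3 := h2.inr_isoIsPushout_hom _ _ h1
    exact congr($h3 b)

theorem isAffineOpen_sqOpen : IsAffineOpen (sqOpen f U.1) := by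
  haveI : IsAffine _ := V.2
  haveI : IsAffine _ := U.2
  exact .of_isIso (Scheme.Hom.isPullback_resLE (IsPullback.of_hasPullback f f) e e
    (UY := sqOpen f U.1) rfl).isoPullback.hom

/-- The restriction of the diagonal to a chart is surjective on functions. -/
theorem diag_appLE_fst (b : Γ(X, U.1)) :
    (pullback.diagonal f).appLE (sqOpen f U.1) U.1 (diag_preimage_sqOpen f U.1).ge
      ((pullback.fst f f).appLE U.1 (sqOpen f U.1) inf_le_left b) = b := by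
  rw [← CommRingCat.comp_apply, Scheme.Hom.appLE_comp_appLE,
    appLE_congr_hom (h := 𝟙 X) (by simp)]
  exact id_appLE_self U.1 _ b

theorem diag_appLE_snd (b : Γ(X, U.1)) :
    (pullback.diagonal f).appLE (sqOpen f U.1) U.1 (diag_preimage_sqOpen f U.1).ge
      ((pullback.snd f f).appLE U.1 (sqOpen f U.1) inf_le_right b) = b := by
  rw [← CommRingCat.comp_apply, Scheme.Hom.appLE_comp_appLE,
    appLE_congr_hom (h := 𝟙 X) (by simp)]
  exact id_appLE_self U.1 _ b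

theorem diag_appLE_surjective :
    Function.Surjective ((pullback.diagonal f).appLE (sqOpen f U.1) U.1 (diag_preimage_sqOpen f U.1).ge) :=
  fun b => ⟨_, diag_appLE_fst f V U e b⟩

theorem sqOpen_le_coborderRange : sqOpen f U.1 ≤ (pullback.diagonal f).coborderRange := by
  let W := sqOpen f U.1
  haveI : IsAffine W.toScheme := isAffineOpen_sqOpen f V U e
  haveI : IsAffine (pullback.diagonal f ⁻¹ᵁ W).toScheme := by
    rw [diag_preimage_sqOpen]; exact U.2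
  haveI : IsClosedImmersion (pullback.diagonal f ∣_ W) := by
    refine IsClosedImmersion.of_surjective_of_isAffine _ ?_
    rw [Scheme.Hom.appTop, morphismRestrict_app']
    have key : ∀ (W' : (pullback f f : Scheme.{u}).Opens) (U' : X.Opens) (h : U' ≤ pullback.diagonal f ⁻¹ᵁ W'),
        W' = W → U' = U.1 → Function.Surjective ((pullback.diagonal f).appLE W' U' h) := by
      rintro _ _ h rfl rfl
      exact diag_appLE_surjective f V U e
    exact key _ _ _ W.ι_image_top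
      ((pullback.diagonal f ⁻¹ᵁ W).ι_image_top.trans (diag_preimage_sqOpen f U.1))
  have hcl := (pullback.diagonal f ∣_ W).isClosedEmbedding.isClosed_range
  intro x hxW
  change x ∈ coborder (Set.range (pullback.diagonal f))
  rw [coborder, Set.mem_compl_iff]
  rintro ⟨hxc, hxr⟩
  have hN : IsOpen (W.ι '' (Set.range (pullback.diagonal f ∣_ W))ᶜ) :=
    W.ι.isOpenEmbedding.isOpenMap _ hcl.isOpen_compl
  have hxN : x ∈ W.ι '' (Set.range (pullback.diagonal f ∣_ W))ᶜ := by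
    refine ⟨⟨x, hxW⟩, ?_, rfl⟩
    rintro ⟨y, hy⟩
    refine hxr ⟨(pullback.diagonal f ⁻¹ᵁ W).ι y, ?_⟩
    rw [← Scheme.Hom.comp_apply, ← morphismRestrict_ι, Scheme.Hom.comp_apply, hy]
    rfl
  obtain ⟨_, ⟨w, hw, rfl⟩, y, hy⟩ := mem_closure_iff.1 hxc _ hN hxN
  refine hw ⟨⟨y, ?_⟩, W.ι.isOpenEmbedding.injective ?_⟩
  · show pullback.diagonal f y ∈ W
    rw [hy]; exact Subtype.mem w
  · refine ((Scheme.Hom.comp_apply _ _ _).symm.trans ?_)
    rw [morphismRestrict_ι]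
    exact hy

/-- `Γ(W) → Γ(pr₁⁻¹ U)`. -/
theorem pr1_preimage_le (n : ℕ) :
    PrinPart.pr1 f n ⁻¹ᵁ U.1 ≤ PrinPart.nbhdι f n ⁻¹ᵁ sqOpen f U.1 := by
  intro z hz
  refine ⟨hz, ?_⟩
  have := PrinPart.preimage_pr1 f n U.1
  exact (this ▸ hz : z ∈ PrinPart.pr2 f n ⁻¹ᵁ U.1)

theorem chart_aux (n : ℕ) [Algebra Γ(S, V.1) Γ(X, U.1)]
    (φ : Γ(X, U.1) ⊗[Γ(S, V.1)] Γ(X, U.1) ≃+* Γ((pullback f f : Scheme.{u}), sqOpen f U.1))
    (hl : ∀ b, φ (b ⊗ₜ 1) = (pullback.fst f f).appLE U.1 (sqOpen f U.1) inf_le_left b)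
    (hr : ∀ b, φ (1 ⊗ₜ b) = (pullback.snd f f).appLE U.1 (sqOpen f U.1) inf_le_right b) :
    Function.Surjective (fun t => (PrinPart.nbhdι f n).appLE (sqOpen f U.1) (PrinPart.pr1 f n ⁻¹ᵁ U.1)
        (pr1_preimage_le f V U e n) (φ t)) ∧
      (∀ t, (PrinPart.nbhdι f n).appLE (sqOpen f U.1) (PrinPart.pr1 f n ⁻¹ᵁ U.1)
        (pr1_preimage_le f V U e n) (φ t) = 0 ↔
          t ∈ KaehlerDifferential.ideal Γ(S, V.1) Γ(X, U.1) ^ (n + 1)) ∧
      IsAffineOpen (PrinPart.pr1 f n ⁻¹ᵁ U.1) := by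
  set δ := pullback.diagonal f with hδ
  let cr := δ.coborderRange
  let W := sqOpen f U.1
  have hWcr : W ≤ cr.ι.opensRange := by
    rw [Scheme.Opens.opensRange_ι]; exact sqOpen_le_coborderRange f V U e
  let W' : cr.toScheme.affineOpens :=
    ⟨cr.ι ⁻¹ᵁ W, (isAffineOpen_sqOpen f V U e).preimage_of_isOpenImmersion cr.ι hWcr⟩
  let d := PrinPart.diagCl f
  have hd : d ⁻¹ᵁ W'.1 = U.1 := by
    rw [← Scheme.Hom.comp_preimage, δ.liftCoborder_ι]
    exact diag_preimage_sqOpen f U.1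
  have hWiso : Function.Bijective (cr.ι.app W) := by
    haveI : IsIso (cr.ι.app W) := cr.ι.isIso_app W hWcr
    exact ConcreteCategory.bijective_of_isIso _
  let φ' : Γ(X, U.1) ⊗[Γ(S, V.1)] Γ(X, U.1) ≃+* Γ(cr.toScheme, W'.1) :=
    φ.trans (RingEquiv.ofBijective (cr.ι.app W).hom hWiso)
  have hI : d.ker.ideal W' = (KaehlerDifferential.ideal Γ(S, V.1) Γ(X, U.1)).map (φ' : _ →+* _) := by
    have key : ∀ t, d.appLE W'.1 U.1 hd.ge (φ' t) = Algebra.TensorProduct.lmul' Γ(S, V.1) t := by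
      intro t
      have h0 : d.appLE W'.1 U.1 hd.ge (φ' t) = δ.appLE W U.1 (diag_preimage_sqOpen f U.1).ge (φ t) := by
        show d.appLE W'.1 U.1 hd.ge (cr.ι.app W (φ t)) = _
        rw [Scheme.Hom.app_eq_appLE, ← CommRingCat.comp_apply, Scheme.Hom.appLE_comp_appLE]
        exact appLE_congr_hom (δ.liftCoborder_ι) W U.1 _ _
      rw [h0]
      clear h0
      induction t with
      | zero => simp
      | add a b ha hb => rw [map_add, map_add, map_add, ha, hb]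
      | tmul a b =>
        rw [show a ⊗ₜ[Γ(S, V.1)] b = (a ⊗ₜ 1) * (1 ⊗ₜ b) by simp, map_mul, map_mul, map_mul, hl, hr]
        rw [diag_appLE_fst f V U e, diag_appLE_snd f V U e]
        simp
    ext s
    obtain ⟨t, rfl⟩ := φ'.surjective s
    rw [show φ' t ∈ Ideal.map (φ' : _ →+* _) (KaehlerDifferential.ideal Γ(S, V.1) Γ(X, U.1)) ↔ _ from
      Ideal.mem_map_of_equiv φ' (φ' t), Scheme.Hom.ker_apply, RingHom.mem_ker, KaehlerDifferential.ideal]
    constructor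
    · intro hs
      refine ⟨t, ?_, rfl⟩
      rw [RingHom.mem_ker]
      refine (key t).symm.trans ?_
      rw [Scheme.Hom.appLE, CommRingCat.comp_apply]
      erw [hs]
      exact map_zero _
    · rintro ⟨t', ht', h⟩
      rw [φ'.injective h, RingHom.mem_ker] at ht'
      have h1 := key t
      erw [ht'] at h1
      rw [Scheme.Hom.appLE, CommRingCat.comp_apply] at h1
      refine map_injective_of_eq hd (homOfLE hd.ge) ?_
      exact h1.trans (map_zero _).symm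
  let ι := PrinPart.infNbhdι d n
  have hsurj : Function.Surjective (ι.app W'.1) := (d.ker ^ (n + 1)).subschemeι_app_surjective W'
  have hker : RingHom.ker (ι.app W'.1).hom =
      (KaehlerDifferential.ideal Γ(S, V.1) Γ(X, U.1) ^ (n + 1)).map (φ' : _ →+* _) := by
    rw [show RingHom.ker (ι.app W'.1).hom = (d.ker ^ (n + 1)).ideal W' from
      (d.ker ^ (n + 1)).ker_subschemeι_app W', Scheme.IdealSheafData.ideal_pow, Pi.pow_apply, hI,
      ← Ideal.map_pow]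
  have hZ : PrinPart.pr1 f n ⁻¹ᵁ U.1 = ι ⁻¹ᵁ W'.1 := by
    apply le_antisymm
    · exact fun z hz => pr1_preimage_le f V U e n hz
    · exact fun z hz => hz.1
  have hfac : ∀ t, (PrinPart.nbhdι f n).appLE W (PrinPart.pr1 f n ⁻¹ᵁ U.1) (pr1_preimage_le f V U e n) (φ t) =
      (PrinPart.nbhd f n).presheaf.map (eqToHom hZ).op (ι.app W'.1 (φ' t)) := by
    intro t
    show (ι ≫ cr.ι).appLE W _ _ (φ t) = (cr.ι.app W ≫ ι.app W'.1 ≫ _) (φ t)
    rfl
  have hbij := ConcreteCategory.bijective_of_isIso ((PrinPart.nbhd f n).presheaf.map (eqToHom hZ).op)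
  haveI : IsClosedImmersion ι := inferInstanceAs (IsClosedImmersion (d.ker ^ (n + 1)).subschemeι)
  refine ⟨fun s => ?_, fun t => ?_, hZ ▸ W'.2.preimage ι⟩
  · obtain ⟨s', rfl⟩ := hbij.2 s
    obtain ⟨w, rfl⟩ := hsurj s'
    obtain ⟨t, rfl⟩ := φ'.surjective w
    exact ⟨t, hfac t⟩
  · rw [hfac, map_eq_zero_iff _ hbij.1, ← RingHom.mem_ker, hker,
      show φ' t ∈ Ideal.map (φ' : _ →+* _) (KaehlerDifferential.ideal Γ(S, V.1) Γ(X, U.1) ^ (n + 1)) ↔ _ from
        Ideal.mem_map_of_equiv φ' (φ' t)]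
    exact ⟨fun ⟨t', ht', h⟩ => φ'.injective h ▸ ht', fun h => ⟨t, h, rfl⟩⟩

/-- The principal parts of a chart. -/
theorem exists_chart (n : ℕ) [Algebra Γ(S, V.1) Γ(X, U.1)]
    (halg : algebraMap Γ(S, V.1) Γ(X, U.1) = (f.appLE V.1 U.1 e).hom) :
    IsAffineOpen (PrinPart.pr1 f n ⁻¹ᵁ U.1) ∧
    ∃ ψ : Γ(X, U.1) ⊗[Γ(S, V.1)] Γ(X, U.1) →+* Γ(PrinPart.nbhd f n, PrinPart.pr1 f n ⁻¹ᵁ U.1),
      Function.Surjective ψ ∧ RingHom.ker ψ = KaehlerDifferential.ideal Γ(S, V.1) Γ(X, U.1) ^ (n + 1) ∧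
      (∀ b, ψ (b ⊗ₜ 1) = (PrinPart.pr1 f n).app U.1 b) ∧
      (∀ b, ψ (1 ⊗ₜ b) = (PrinPart.pr2 f n).appLE U.1 (PrinPart.pr1 f n ⁻¹ᵁ U.1) (PrinPart.preimage_pr1 f n U.1).le b) := by
  obtain ⟨φ, hl, hr⟩ := exists_sqEquiv f V U e halg
  obtain ⟨h1, h2, h3⟩ := chart_aux f V U e n φ hl hr
  refine ⟨h3, ((PrinPart.nbhdι f n).appLE (sqOpen f U.1) (PrinPart.pr1 f n ⁻¹ᵁ U.1)
      (pr1_preimage_le f V U e n)).hom.comp φ.toRingHom, h1, Ideal.ext h2, fun b => ?_, fun b => ?_⟩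
  · show (PrinPart.nbhdι f n).appLE _ _ _ (φ (b ⊗ₜ 1)) = _
    rw [hl, Scheme.Hom.app_eq_appLE, ← CommRingCat.comp_apply, Scheme.Hom.appLE_comp_appLE]
    rfl
  · show (PrinPart.nbhdι f n).appLE _ _ _ (φ (1 ⊗ₜ b)) = _
    rw [hr, ← CommRingCat.comp_apply, Scheme.Hom.appLE_comp_appLE]
    rfl

end Groth.Agent.PPSheaf
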