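import Groth.Agent.Synt29.ConormalSeq
import Groth.Agent.FComplLib.IdealComap
import Mathlib.AlgebraicGeometry.Morphisms.Immersion
import Mathlib.AlgebraicGeometry.Morphisms.FinitePresentation
import Mathlib.RingTheory.Nakayama

/-!
# An immersion of finite presentation with zero conormal stalk is an open immersion nearby
-/

set_option autoImplicit false

universe u

open CategoryTheory CategoryTheory.Limits AlgebraicGeometry TopologicalSpace Opposite

namespace Groth.Agent.PPSheaf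

open Groth.Agent.Synt29.OmegaStalk Groth.Agent.Synt29.ConormalStalk Groth.Agent.Synt29.ConormalSeq Groth.Agent.KFlatLib

variable {Y X : Scheme.{u}} (j : Y ⟶ X) [IsImmersion j] [QuasiCompact j]

theorem ker_stalkMap_le_sq {y : Y} (h : Subsingleton ((Omega.conormal j).presheaf.stalk y)) :
    RingHom.ker (j.stalkMap y).hom ≤ RingHom.ker (j.stalkMap y).hom ^ 2 := by
  intro a ha
  obtain ⟨m, hm⟩ := exists_rep j (RingHom.mem_ker.1 ha)
  refine mem_sq_of_unit1_eq_zero j (j.stalkMap_surjective y) hm ?_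
  let P := (stalkPullbackIso j y).app (ClSub.idealMod j.ker)
  obtain ⟨U, hy, k, rfl⟩ := gm_surjective (ClSub.idealMod j.ker) m
  have h0 : gm (Omega.conormal j) (show y ∈ j ⁻¹ᵁ U from hy) (OmegaSh.conormalSect j U k) = 0 := h.elim _ _
  refine (stalkPullbackIso_gm j (ClSub.idealMod j.ker) y hy k).symm.trans ?_
  exact (congrArg _ h0).trans (map_zero _)

theorem subsingleton_conormal_stalk {y : Y} (h : RingHom.ker (j.stalkMap y).hom = ⊥) :
    Subsingleton ((Omega.conormal j).presheaf.stalk y) := by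
  have key : ∀ z : St (Omega.conormal j) y, z = 0 := fun z => by
    obtain ⟨U, hx, k, rfl⟩ := exists_conormalSect j y z
    refine conormalSect_eq_zero j hx k ?_
    have hk : j.stalkMap y (X.presheaf.germ U (j y) hx (OmegaSh.idealSect j.ker U k)) = 0 :=
      rep_mem j ⟨U, hx, k, rfl, rfl⟩
    rw [show X.presheaf.germ U (j y) hx (OmegaSh.idealSect j.ker U k) = 0 from
      (Submodule.mem_bot _).1 (h.le (RingHom.mem_ker.2 hk))]
    exact zero_mem _
  exact ⟨fun a b => (key a).trans (key b).symm⟩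

theorem exists_isOpenImmersion_iff [LocallyOfFinitePresentation j] (y : Y) :
    (∃ U : Y.Opens, y ∈ U ∧ IsOpenImmersion (U.ι ≫ j)) ↔
      Subsingleton ((Omega.conormal j).presheaf.stalk y) := by
  constructor
  · rintro ⟨U, hyU, hU⟩
    refine subsingleton_conormal_stalk j ?_
    have h2 := Scheme.Hom.stalkMap_comp U.ι j ⟨y, hyU⟩
    haveI : IsIso (j.stalkMap y) := by
      haveI hA : IsIso (Scheme.Hom.stalkMap (U.ι ≫ j) (⟨y, hyU⟩ : U.toScheme)) := inferInstance
      haveI hB : IsIso (Scheme.Hom.stalkMap U.ι (⟨y, hyU⟩ : U.toScheme)) := inferInstance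
      rw [h2] at hA
      exact @IsIso.of_isIso_comp_right _ _ _ _ _ _ (Scheme.Hom.stalkMap U.ι (⟨y, hyU⟩ : U.toScheme)) hB hA
    exact (RingHom.injective_iff_ker_eq_bot _).1 (ConcreteCategory.bijective_of_isIso (j.stalkMap y)).1
  intro h
  let C := j.coborderRange
  let i := j.liftCoborder
  have hi : i ≫ C.ι = j := j.liftCoborder_ι
  have hp : IsPullback i (𝟙 Y) C.ι j :=
    ⟨⟨by rw [Category.id_comp, hi]⟩, ⟨PullbackCone.IsLimit.mk _ (fun s => s.snd)
      (fun s => by rw [← cancel_mono C.ι, Category.assoc, hi]; exact s.condition.symm)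
      (fun s => Category.comp_id _)
      (fun s m _ h => by rw [← h, Category.comp_id])⟩⟩
  haveI : LocallyOfFinitePresentation i := MorphismProperty.of_isPullback hp.flip inferInstance
  obtain ⟨_, ⟨W, hW, rfl⟩, hyW, -⟩ :=
    C.toScheme.isBasis_affineOpens.exists_subset_of_mem_open (Set.mem_univ (i y)) isOpen_univ
  let I := RingHom.ker (i.app W).hom
  have hs : Function.Surjective (i.app W) := i.app_surjective W hW
  have hWY : IsAffineOpen (i ⁻¹ᵁ W) := hW.preimage i
  have hfg : I.FG := by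
    letI := (i.app W).hom.toAlgebra
    have : Algebra.FinitePresentation Γ(C, W) Γ(Y, i ⁻¹ᵁ W) := by
      have := i.finitePresentation_appLE hW hWY le_rfl
      rwa [← Scheme.Hom.app_eq_appLE] at this
    exact Algebra.FinitePresentation.ker_fG_of_surjective (Algebra.ofId Γ(C, W) Γ(Y, i ⁻¹ᵁ W)) hs
  -- the stalk of `C` agrees with the stalk of `X`
  let K := RingHom.ker (i.stalkMap y).hom
  have hK : K ≤ K ^ 2 := by
    intro c hc
    let e : X.presheaf.stalk (C.ι (i y)) ≅ C.toScheme.presheaf.stalk (i y) := asIso (C.ι.stalkMap (i y))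
    have hb : Function.Bijective (C.ι.stalkMap (i y)) := ConcreteCategory.bijective_of_isIso e.hom
    have hc' : ∀ b, (i ≫ C.ι).stalkMap y b = i.stalkMap y (C.ι.stalkMap (i y) b) := fun b => by
      rw [Scheme.Hom.stalkMap_comp]; rfl
    have key : RingHom.ker ((i ≫ C.ι).stalkMap y).hom ≤ RingHom.ker ((i ≫ C.ι).stalkMap y).hom ^ 2 := by
      haveI : QuasiCompact (i ≫ C.ι) := by rw [hi]; infer_instance
      haveI : IsImmersion (i ≫ C.ι) := by rw [hi]; infer_instance
      refine ker_stalkMap_le_sq (i ≫ C.ι) ?_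
      rw [hi]; exact h
    obtain ⟨b, rfl⟩ := hb.2 c
    have h3 := key (show b ∈ RingHom.ker ((i ≫ C.ι).stalkMap y).hom from (hc' b).trans hc)
    have h4 := Ideal.mem_map_of_mem (C.ι.stalkMap (i y)).hom h3
    refine Ideal.pow_right_mono (Ideal.map_le_iff_le_comap.2 fun x hx => ?_) 2 ((Ideal.map_pow (C.ι.stalkMap (i y)).hom (RingHom.ker ((i ≫ C.ι).stalkMap y).hom) 2).le h4)
    exact (hc' x).symm.trans hx
  letI algW := C.toScheme.presheaf.algebra_section_stalk (U := W) ⟨i y, hyW⟩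
  haveI : IsLocalization.AtPrime (C.toScheme.presheaf.stalk (i y)) (hW.primeIdealOf ⟨i y, hyW⟩).asIdeal :=
    hW.isLocalization_stalk ⟨i y, hyW⟩
  letI algY := Y.presheaf.algebra_section_stalk (U := i ⁻¹ᵁ W) ⟨y, hyW⟩
  haveI : IsLocalization.AtPrime (Y.presheaf.stalk y) (hWY.primeIdealOf ⟨y, hyW⟩).asIdeal :=
    hWY.isLocalization_stalk ⟨y, hyW⟩
  let g : Γ(C, W) →+* C.toScheme.presheaf.stalk (i y) := algebraMap _ _
  have hgK : Ideal.map g I = K := by
    refine le_antisymm (Ideal.map_le_iff_le_comap.2 fun a ha => ?_) fun c hc => ?_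
    · show i.stalkMap y (C.toScheme.presheaf.germ W (i y) hyW a) = 0
      rw [Scheme.Hom.germ_stalkMap_apply, show i.app W a = 0 from ha, map_zero]
    · obtain ⟨⟨a, s⟩, hac⟩ := IsLocalization.surj (hW.primeIdealOf ⟨i y, hyW⟩).asIdeal.primeCompl c
      have ha : Y.presheaf.germ (i ⁻¹ᵁ W) y hyW (i.app W a) = 0 := by
        rw [← Scheme.Hom.germ_stalkMap_apply i W y hyW, show C.toScheme.presheaf.germ W (i y) hyW a = _ from hac.symm,
          map_mul, show i.stalkMap y c = 0 from hc, zero_mul]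
      obtain ⟨⟨t, ht⟩, hta⟩ := (IsLocalization.map_eq_zero_iff (hWY.primeIdealOf ⟨y, hyW⟩).asIdeal.primeCompl
        (Y.presheaf.stalk y) (i.app W a)).1 ha
      obtain ⟨t', rfl⟩ := hs t
      have hu : IsUnit (g t') := by
        have h1 : IsUnit (Y.presheaf.germ (i ⁻¹ᵁ W) y hyW (i.app W t')) :=
          IsLocalization.map_units (Y.presheaf.stalk y) (⟨_, ht⟩ : (hWY.primeIdealOf ⟨y, hyW⟩).asIdeal.primeCompl)
        rw [← Scheme.Hom.germ_stalkMap_apply i W y hyW] at h1
        exact isUnit_of_map_unit _ _ h1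
      have hmem : g (t' * a) ∈ Ideal.map g I :=
        Ideal.mem_map_of_mem g (show i.app W (t' * a) = 0 by rw [map_mul]; exact hta)
      rw [map_mul, show g a = c * g s.1 from hac.symm] at hmem
      rw [Ideal.unit_mul_mem_iff_mem _ hu] at hmem
      exact (Ideal.mul_unit_mem_iff_mem _ (IsLocalization.map_units _ s)).1 hmem
  have hKfg : K.FG := hgK ▸ hfg.map g
  have hK0 : K = ⊥ := by
    refine Submodule.eq_bot_of_le_smul_of_le_jacobson_bot K K hKfg ?_ ?_
    · simpa [sq] using hK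
    · rw [IsLocalRing.jacobson_eq_maximalIdeal _ bot_ne_top]
      exact IsLocalRing.le_maximalIdeal (RingHom.ker_ne_top _)
  obtain ⟨S', hS'⟩ := hfg
  have hkill : ∀ a ∈ S', ∃ s ∈ (hW.primeIdealOf ⟨i y, hyW⟩).asIdeal.primeCompl, s * a = 0 := by
    intro a ha
    have h0 : g a = 0 := (Submodule.mem_bot _).1 (hK0.le (hgK.le (Ideal.mem_map_of_mem g (hS'.le (Ideal.subset_span ha)))))
    obtain ⟨⟨s, hs⟩, h1⟩ := (IsLocalization.map_eq_zero_iff (hW.primeIdealOf ⟨i y, hyW⟩).asIdeal.primeCompl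
      (C.toScheme.presheaf.stalk (i y)) a).1 h0
    exact ⟨s, hs, h1⟩
  choose! sf hsf hsf0 using hkill
  let s := ∏ a ∈ S', sf a
  have hsy : i y ∈ C.toScheme.basicOpen s := by
    rw [Scheme.mem_basicOpen _ _ _ hyW]
    exact IsLocalization.map_units (C.toScheme.presheaf.stalk (i y))
      (⟨s, prod_mem hsf⟩ : (hW.primeIdealOf ⟨i y, hyW⟩).asIdeal.primeCompl)
  let D := C.toScheme.basicOpen s
  have hD : IsAffineOpen D := hW.basicOpen s
  have hID : i.ker.ideal ⟨D, hD⟩ = ⊥ := by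
    have := i.ker.map_ideal_basicOpen ⟨W, hW⟩ s
    rw [show i.ker.ideal (C.toScheme.affineBasicOpen (U := ⟨W, hW⟩) s) = i.ker.ideal ⟨D, hD⟩ from rfl] at this
    rw [← this, FComplLib.ideal_ker, show RingHom.ker (i.app W).hom = Ideal.span (S' : Set _) from hS'.symm,
      Ideal.map_span, Ideal.span_eq_bot]
    rintro _ ⟨a, ha, rfl⟩
    have hu : IsUnit (C.toScheme.presheaf.map (homOfLE (C.toScheme.basicOpen_le s)).op s) :=
      RingedSpace.isUnit_res_basicOpen _ s
    refine hu.mul_right_eq_zero.1 ?_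
    rw [← map_mul, show s * a = 0 by
      obtain ⟨c, hc⟩ := Finset.dvd_prod_of_mem sf ha
      show (∏ a ∈ S', sf a) * a = 0
      rw [hc, mul_right_comm, hsf0 a ha, zero_mul], map_zero]
  have hker : (i ∣_ D).ker = ⊥ := by
    rw [FComplLib.ker_of_isPullback (isPullback_morphismRestrict i D)]
    haveI : IsAffine D.toScheme := hD
    refine Scheme.IdealSheafData.ext_of_isAffine ?_
    rw [Scheme.IdealSheafData.ideal_comap_of_isOpenImmersion, Scheme.IdealSheafData.ideal_bot, Pi.bot_apply, eq_bot_iff]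
    intro a ha
    have hgen : ∀ U' : C.toScheme.affineOpens, U'.1 = D → ∀ b ∈ i.ker.ideal U', b = 0 := by
      rintro ⟨U', hU'⟩ rfl b hb
      exact (Submodule.mem_bot _).1 (hID.le hb)
    refine (Submodule.mem_bot _).2 ((ConcreteCategory.bijective_of_isIso (D.ι.appIso ⊤).inv).1 ?_)
    rw [map_zero]
    exact hgen ⟨D.ι ''ᵁ ⊤, (isAffineOpen_top _).image_of_isOpenImmersion D.ι⟩ D.ι_image_top _ ha
  haveI : IsIso (i ∣_ D) := IsClosedImmersion.isIso_iff_ker_eq_bot.2 hker
  refine ⟨i ⁻¹ᵁ D, hsy, ?_⟩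
  have h1 : (i ⁻¹ᵁ D).ι ≫ j = ((i ∣_ D) ≫ D.ι) ≫ C.ι := by rw [morphismRestrict_ι, Category.assoc, hi]
  rw [h1]
  infer_instance

end Groth.Agent.PPSheaf
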