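import Groth.Agent.PPLib.PMUniv

/-!
# Differential operators killed through a fraction
-/

universe u

open Diff16 TensorProduct

namespace Groth.Agent.PPSheaf

open Groth.Agent.PPLib Groth.Agent.DiffOps

variable {A B : Type u} [CommRing A] [CommRing B] [Algebra A B]
variable {M N : Type u} [AddCommGroup M] [Module A M] [Module B M] [IsScalarTower A B M]
  [AddCommGroup N] [Module A N] [Module B N] [IsScalarTower A B N]

theorem swapAct_mul_apply (D : M →ₗ[A] N) (c c' : B) (x : B ⊗[A] B) (m : M) :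
    swapAct D ((c ⊗ₜ[A] c') * x) m = c • swapAct D x (c' • m) := by
  induction x using TensorProduct.induction_on with
  | zero => simp
  | add x y hx hy => simp only [mul_add, map_add, LinearMap.add_apply, hx, hy, smul_add]
  | tmul u v => simp [swapAct_tmul, mul_smul, mul_comm c' v]

theorem sub_lmul_mem (c : B ⊗[A] B) :
    c - (Algebra.TensorProduct.lmul' A c) ⊗ₜ[A] (1 : B) ∈ KaehlerDifferential.ideal A B := by
  rw [KaehlerDifferential.ideal, RingHom.mem_ker]
  show Algebra.TensorProduct.lmul' A _ = 0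
  simp

/-- If a multiple of `t` by a fraction acting invertibly is in `I^(n+1)`, then `t` acts as zero. -/
theorem swapAct_eq_zero_of_mul {n : ℕ} (D : M →ₗ[A] N) (hD : IsDiffOpLE A B M N n D) (c t : B ⊗[A] B)
    (hc : ∀ w : N, (Algebra.TensorProduct.lmul' A c) • w = 0 → w = 0)
    (h : c * t ∈ KaehlerDifferential.ideal A B ^ (n + 1)) : swapAct D t = 0 := by
  have hzero : ∀ x ∈ KaehlerDifferential.ideal A B ^ (n + 1), swapAct D x = 0 :=
    fun x hx => act_eq_zero n D hD _ (comm_mem hx)
  set m₀ := Algebra.TensorProduct.lmul' A c with hm₀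
  set i := c - m₀ ⊗ₜ[A] (1 : B) with hi
  suffices key : ∀ k : ℕ, k ≤ n + 1 → swapAct D (i ^ (n + 1 - k) * t) = 0 by
    simpa using key (n + 1) le_rfl
  intro k
  induction k with
  | zero =>
    intro _
    exact hzero _ (Ideal.mul_mem_right _ _ (Ideal.pow_mem_pow (sub_lmul_mem c) _))
  | succ k ih =>
    intro hk
    obtain ⟨j, hj⟩ : ∃ j, n + 1 - k = j + 1 := ⟨n - k, by omega⟩
    have hj' : n + 1 - (k + 1) = j := by omega
    rw [hj']
    have e : c * (i ^ j * t) = (m₀ ⊗ₜ[A] (1 : B)) * (i ^ j * t) + i ^ (j + 1) * t := by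
      rw [show c = m₀ ⊗ₜ[A] (1 : B) + i by rw [hi]; ring]; ring
    have h0 : swapAct D (c * (i ^ j * t)) = 0 :=
      hzero _ (by rw [show c * (i ^ j * t) = i ^ j * (c * t) by ring]; exact Ideal.mul_mem_left _ _ h)
    rw [e, map_add, ← hj, ih (by omega), add_zero] at h0
    ext m
    refine hc _ ?_
    have := LinearMap.congr_fun h0 m
    rwa [swapAct_mul_apply, one_smul] at this

/-- A fraction denominator has invertible value. -/
theorem isUnit_lmul_tmul_one {R : Type u} [CommRing R] {n : ℕ} (γ : B ⊗[A] B →+* R)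
    (h : ∀ x ∈ KaehlerDifferential.ideal A B ^ (n + 1), γ x = 0) {c : B ⊗[A] B} (hc : IsUnit (γ c)) :
    IsUnit (γ ((Algebra.TensorProduct.lmul' A c) ⊗ₜ[A] (1 : B))) := by
  have hnil : IsNilpotent (γ (c - (Algebra.TensorProduct.lmul' A c) ⊗ₜ[A] (1 : B))) :=
    ⟨n + 1, by rw [← map_pow]; exact h _ (Ideal.pow_mem_pow (sub_lmul_mem c) _)⟩
  have h' := hnil.neg.isUnit_add_left_of_commute hc (Commute.all _ _)
  rwa [map_sub, neg_sub, add_sub_cancel] at h'

end Groth.Agent.PPSheaf
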