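import Groth.Agent.PPSheaf.Gen
import Groth.Agent.PPSheaf.CritAlg

/-!
# Differential operators on a scheme: the alternating sum criterion
-/

set_option autoImplicit false

universe u

open CategoryTheory CategoryTheory.Limits AlgebraicGeometry TopologicalSpace Opposite
open scoped TensorProduct

namespace Groth.Agent.PPSheaf

open Groth.Agent.Synt29.OmegaStalk Groth.Agent.PPLib

variable {X S : Scheme.{u}} (f : X ⟶ S) (n : ℕ) {F G : X.Modules} (D : F.presheaf ⟶ G.presheaf)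

/-- `D` commutes with functions coming from the base. -/
def IsBaseLinear : Prop :=
  ∀ (V : S.Opens) (s : Γ(S, V)) (U : X.Opens) (hU : U ≤ f ⁻¹ᵁ V) (t : Γ(F, U)),
    D.app (op U) (X.presheaf.map (homOfLE hU).op (f.app V s) • t) =
      X.presheaf.map (homOfLE hU).op (f.app V s) • D.app (op U) t

/-- All alternating sums of length `n + 1` of `D` vanish. -/
def AltVanishes : Prop :=
  ∀ (U : X.Opens) (a : Fin (n + 1) → Γ(X, U)) (t : Γ(F, U)),
    (∑ H : Finset (Fin (n + 1)),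
      ((-1 : ℤ) ^ H.card) • ((∏ i ∈ H, a i) • D.app (op U) ((∏ i ∈ Hᶜ, a i) • t))) = 0

/-- `D` on stalks, from the second projection to the first. -/
noncomputable def stalkOp (z : PrinPart.nbhd f n) :
    St F (PrinPart.pr2 f n z) →+ St G (PrinPart.pr1 f n z) :=
  ((TopCat.Presheaf.stalkFunctor AddCommGrpCat.{u} (PrinPart.pr2 f n z)).map D ≫
    G.presheaf.stalkSpecializes (specializes_of_eq (PrinPart.pr1_apply f n z))).hom

theorem stalkOp_gm (z : PrinPart.nbhd f n) (W : X.Opens) (hW : PrinPart.pr2 f n z ∈ W) (s : Γ(F, W)) :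
    stalkOp f n D z (gm F hW s) =
      gm G (show PrinPart.pr1 f n z ∈ W from (PrinPart.pr1_apply f n z).symm ▸ hW) (D.app (op W) s) := by
  show G.presheaf.stalkSpecializes _ ((TopCat.Presheaf.stalkFunctor AddCommGrpCat.{u} _).map D
    (F.presheaf.germ W _ hW s)) = _
  erw [TopCat.Presheaf.stalkFunctor_map_germ_apply]
  exact TopCat.Presheaf.germ_stalkSpecializes_apply G.presheaf hW _ _

/-- Multiplication on both sides of `D` on stalks. -/
noncomputable def biAct (z : PrinPart.nbhd f n) :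
    X.presheaf.stalk (PrinPart.pr1 f n z) ⊗[ℤ] X.presheaf.stalk (PrinPart.pr2 f n z) →+
      (St F (PrinPart.pr2 f n z) →+ St G (PrinPart.pr1 f n z)) :=
  TensorProduct.liftAddHom
    { toFun := fun a =>
        { toFun := fun b =>
            { toFun := fun m => a • stalkOp f n D z (b • m)
              map_zero' := by simp
              map_add' := fun m m' => by simp [smul_add] }
          map_zero' := by ext m; simp
          map_add' := fun b b' => by ext m; simp [add_smul, smul_add] }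
      map_zero' := by ext b m; simp
      map_add' := fun a a' => by ext b m; simp [add_smul] }
    (fun r a b => by
      ext m
      show (r • a) • stalkOp f n D z (b • m) = a • stalkOp f n D z ((r • b) • m)
      rw [zsmul_eq_mul, zsmul_eq_mul, mul_smul, mul_smul]
      simp only [Int.cast_smul_eq_zsmul, map_zsmul, smul_comm a r])

theorem biAct_tmul (z : PrinPart.nbhd f n) (a : X.presheaf.stalk (PrinPart.pr1 f n z))
    (b : X.presheaf.stalk (PrinPart.pr2 f n z)) (m : St F (PrinPart.pr2 f n z)) :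
    biAct f n D z (a ⊗ₜ b) m = a • stalkOp f n D z (b • m) := rfl

theorem biAct_mul (z : PrinPart.nbhd f n) (a : X.presheaf.stalk (PrinPart.pr1 f n z))
    (b : X.presheaf.stalk (PrinPart.pr2 f n z))
    (τ : X.presheaf.stalk (PrinPart.pr1 f n z) ⊗[ℤ] X.presheaf.stalk (PrinPart.pr2 f n z))
    (m : St F (PrinPart.pr2 f n z)) :
    biAct f n D z ((a ⊗ₜ b) * τ) m = a • biAct f n D z τ (b • m) := by
  induction τ using TensorProduct.induction_on with
  | zero => simp
  | add x y hx hy => simp only [mul_add, map_add, AddMonoidHom.add_apply, hx, hy, smul_add]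
  | tmul c d =>
    rw [Algebra.TensorProduct.tmul_mul_tmul, biAct_tmul, biAct_tmul, mul_smul, mul_comm b d, mul_smul]

/-- The products of germs. -/
noncomputable def toStalkZ (z : PrinPart.nbhd f n) :
    X.presheaf.stalk (PrinPart.pr1 f n z) ⊗[ℤ] X.presheaf.stalk (PrinPart.pr2 f n z) →+*
      (PrinPart.nbhd f n).presheaf.stalk z :=
  (Algebra.TensorProduct.productMap ((PrinPart.pr1 f n).stalkMap z).hom.toIntAlgHom
    ((PrinPart.pr2 f n).stalkMap z).hom.toIntAlgHom).toRingHom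

theorem toStalkZ_surjective (z : PrinPart.nbhd f n) : Function.Surjective (toStalkZ f n z) := fun s =>
  RingHom.mem_range.1 (show s ∈ prodGerms f n z from prodGerms_eq_top f n z ▸ Subring.mem_top s)

theorem toStalkZ_tmul (z : PrinPart.nbhd f n) (a : X.presheaf.stalk (PrinPart.pr1 f n z))
    (b : X.presheaf.stalk (PrinPart.pr2 f n z)) :
    toStalkZ f n z (a ⊗ₜ b) = (PrinPart.pr1 f n).stalkMap z a * (PrinPart.pr2 f n).stalkMap z b :=
  Algebra.TensorProduct.productMap_apply_tmul _ _ a b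

set_option maxHeartbeats 4000000 in
theorem biAct_eq_zero (hlin : IsBaseLinear f D) (halt : AltVanishes n D) (z : PrinPart.nbhd f n)
    (τ : X.presheaf.stalk (PrinPart.pr1 f n z) ⊗[ℤ] X.presheaf.stalk (PrinPart.pr2 f n z))
    (hτ : toStalkZ f n z τ = 0) : biAct f n D z τ = 0 := by
  obtain ⟨V, U, hx₁, e⟩ := exists_affine_pair f (PrinPart.pr1 f n z)
  have hx₂ : PrinPart.pr2 f n z ∈ U.1 := (PrinPart.pr1_apply f n z) ▸ hx₁
  letI := (f.appLE V.1 U.1 e).hom.toAlgebra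
  obtain ⟨hZu, ψ, hsurj, hker, hl, hr⟩ := exists_chart f V U e n rfl
  have hz : z ∈ PrinPart.pr1 f n ⁻¹ᵁ U.1 := hx₁
  let g₁ := (X.presheaf.germ U.1 _ hx₁).hom
  let g₂ := (X.presheaf.germ U.1 _ hx₂).hom
  let ha := algebraMap Γ(S, V.1) Γ(X, U.1)
  letI : Module Γ(X, U.1) (St F (PrinPart.pr2 f n z)) := Module.compHom _ g₂
  letI : Module Γ(X, U.1) (St G (PrinPart.pr1 f n z)) := Module.compHom _ g₁
  letI : Module Γ(S, V.1) (St F (PrinPart.pr2 f n z)) := Module.compHom _ (g₂.comp ha)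
  letI : Module Γ(S, V.1) (St G (PrinPart.pr1 f n z)) := Module.compHom _ (g₁.comp ha)
  haveI : IsScalarTower Γ(S, V.1) Γ(X, U.1) (St F (PrinPart.pr2 f n z)) := ⟨fun a b m => by
    show g₂ (a • b) • m = g₂ (ha a) • (g₂ b • m)
    rw [Algebra.smul_def, map_mul, mul_smul]⟩
  haveI : IsScalarTower Γ(S, V.1) Γ(X, U.1) (St G (PrinPart.pr1 f n z)) := ⟨fun a b m => by
    show g₁ (a • b) • m = g₁ (ha a) • (g₁ b • m)
    rw [Algebra.smul_def, map_mul, mul_smul]⟩
  have hrep : ∀ m : St F (PrinPart.pr2 f n z), ∃ (W : X.Opens) (_ : W ≤ U.1) (hW : PrinPart.pr2 f n z ∈ W)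
      (s : Γ(F, W)), gm F hW s = m := fun m => by
    obtain ⟨W, hW, s, rfl⟩ := gm_surjective F m
    exact ⟨W ⊓ U.1, inf_le_right, ⟨hW, hx₂⟩, F.presheaf.map (homOfLE inf_le_left).op s, gm_res F _ _ s⟩
  let DA : St F (PrinPart.pr2 f n z) →ₗ[Γ(S, V.1)] St G (PrinPart.pr1 f n z) :=
    { toFun := stalkOp f n D z
      map_add' := map_add _
      map_smul' := fun a m => by
        obtain ⟨W, hWU, hW, s, rfl⟩ := hrep m
        show stalkOp f n D z (g₂ (ha a) • gm F hW s) = g₁ (ha a) • stalkOp f n D z (gm F hW s)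
        have hWV : W ≤ f ⁻¹ᵁ V.1 := hWU.trans e
        have e₂ : g₂ (ha a) = X.presheaf.germ W _ hW (X.presheaf.map (homOfLE hWV).op (f.app V.1 a)) := by
          rw [X.presheaf.germ_res_apply]
          exact (X.presheaf.germ_res_apply (homOfLE e) _ hx₂ _)
        have e₁ : g₁ (ha a) = X.presheaf.germ W _ ((PrinPart.pr1_apply f n z).symm ▸ hW)
            (X.presheaf.map (homOfLE hWV).op (f.app V.1 a)) := by
          rw [X.presheaf.germ_res_apply]
          exact (X.presheaf.germ_res_apply (homOfLE e) _ hx₁ _)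
        rw [e₂, ← gm_smul, stalkOp_gm, stalkOp_gm, hlin, gm_smul, ← e₁] }
  have hDA : Diff16.IsDiffOpLE Γ(S, V.1) Γ(X, U.1) (St F (PrinPart.pr2 f n z)) (St G (PrinPart.pr1 f n z)) n DA := by
    rw [DiffOps.isDiffOpLE_iff_altSum]
    intro b m
    obtain ⟨W, hWU, hW, s, rfl⟩ := hrep m
    have hW₁ : PrinPart.pr1 f n z ∈ W := (PrinPart.pr1_apply f n z).symm ▸ hW
    let b' : Fin (n + 1) → Γ(X, W) := fun i => X.presheaf.map (homOfLE hWU).op (b i)
    have hpr : ∀ (x : X) (hx : x ∈ W) (H : Finset (Fin (n + 1))),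
        X.presheaf.germ U.1 x (hWU hx) (∏ i ∈ H, b i) = X.presheaf.germ W x hx (∏ i ∈ H, b' i) := fun x hx H => by
      rw [map_prod, map_prod]
      exact Finset.prod_congr rfl fun i _ => (X.presheaf.germ_res_apply _ _ _ _).symm
    have h0 := congrArg (gm G hW₁) (halt W b' s)
    rw [map_sum, map_zero] at h0
    refine Eq.trans ?_ h0
    rw [DiffOps.altSum, Finset.powerset_univ]
    refine Finset.sum_congr rfl fun H _ => ?_
    rw [map_zsmul, gm_smul]
    show ((-1 : ℤ) ^ H.card) • (g₁ (∏ i ∈ H, b i) • stalkOp f n D z (g₂ (∏ i ∈ Finset.univ \ H, b i) • gm F hW s)) = _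
    rw [← Finset.compl_eq_univ_sdiff, show g₂ (∏ i ∈ Hᶜ, b i) = _ from hpr _ hW Hᶜ, ← gm_smul, stalkOp_gm,
      show g₁ (∏ i ∈ H, b i) = _ from hpr _ hW₁ H]
  let γ := ((PrinPart.nbhd f n).presheaf.germ _ z hz).hom.comp ψ
  have hγ : ∀ b c, γ (b ⊗ₜ c) = toStalkZ f n z (g₁ b ⊗ₜ g₂ c) := fun b c => by
    rw [toStalkZ_tmul, show b ⊗ₜ[Γ(S, V.1)] c = (b ⊗ₜ 1) * (1 ⊗ₜ c) by simp, map_mul]
    show (PrinPart.nbhd f n).presheaf.germ _ z hz (ψ (b ⊗ₜ 1)) * (PrinPart.nbhd f n).presheaf.germ _ z hz (ψ (1 ⊗ₜ c)) = _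
    rw [hl, hr, germ_appLE_stalkMap, Scheme.Hom.germ_stalkMap_apply (PrinPart.pr1 f n) U.1 z hx₁ b]
  have hloc₁ : ∀ a : X.presheaf.stalk (PrinPart.pr1 f n z), ∃ b c, IsUnit (g₁ c) ∧ g₁ c * a = g₁ b := fun a => by
    letI := X.presheaf.algebra_section_stalk (U := U.1) ⟨_, hx₁⟩
    haveI := U.2.isLocalization_stalk ⟨_, hx₁⟩
    obtain ⟨⟨b, c⟩, h⟩ := IsLocalization.surj (U.2.primeIdealOf ⟨_, hx₁⟩).asIdeal.primeCompl a
    exact ⟨b, c, IsLocalization.map_units (X.presheaf.stalk _) c, (mul_comm _ _).trans h⟩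
  have hloc₂ : ∀ a : X.presheaf.stalk (PrinPart.pr2 f n z), ∃ b c, IsUnit (g₂ c) ∧ g₂ c * a = g₂ b := fun a => by
    letI := X.presheaf.algebra_section_stalk (U := U.1) ⟨_, hx₂⟩
    haveI := U.2.isLocalization_stalk ⟨_, hx₂⟩
    obtain ⟨⟨b, c⟩, h⟩ := IsLocalization.surj (U.2.primeIdealOf ⟨_, hx₂⟩).asIdeal.primeCompl a
    exact ⟨b, c, IsLocalization.map_units (X.presheaf.stalk _) c, (mul_comm _ _).trans h⟩
  -- every tensor of germs is, up to units, a tensor of sections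
  have hfrac : ∀ τ, ∃ c₁ c₂ t, IsUnit (g₁ c₁) ∧ IsUnit (g₂ c₂) ∧
      toStalkZ f n z ((g₁ c₁ ⊗ₜ g₂ c₂) * τ) = γ t ∧
      ∀ m, biAct f n D z ((g₁ c₁ ⊗ₜ g₂ c₂) * τ) m = swapAct DA t m := by
    intro τ
    induction τ using TensorProduct.induction_on with
    | zero => exact ⟨1, 1, 0, by simp, by simp, by simp, fun m => by simp⟩
    | tmul a b =>
      obtain ⟨p₁, c₁, hc₁, h₁⟩ := hloc₁ a
      obtain ⟨p₂, c₂, hc₂, h₂⟩ := hloc₂ b
      refine ⟨c₁, c₂, p₁ ⊗ₜ p₂, hc₁, hc₂, ?_, fun m => ?_⟩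
      · rw [Algebra.TensorProduct.tmul_mul_tmul, h₁, h₂, hγ]
      · rw [Algebra.TensorProduct.tmul_mul_tmul, h₁, h₂, biAct_tmul, swapAct_tmul]
        rfl
    | add x y hx hy =>
      obtain ⟨c₁, c₂, t, hc₁, hc₂, ht, htm⟩ := hx
      obtain ⟨d₁, d₂, t', hd₁, hd₂, ht', htm'⟩ := hy
      refine ⟨c₁ * d₁, c₂ * d₂, (d₁ ⊗ₜ d₂) * t + (c₁ ⊗ₜ c₂) * t', by rw [map_mul]; exact hc₁.mul hd₁,
        by rw [map_mul]; exact hc₂.mul hd₂, ?_, fun m => ?_⟩
      all_goals
        have e₀ : (g₁ (c₁ * d₁) ⊗ₜ[ℤ] g₂ (c₂ * d₂)) * (x + y) =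
            (g₁ d₁ ⊗ₜ g₂ d₂) * ((g₁ c₁ ⊗ₜ g₂ c₂) * x) + (g₁ c₁ ⊗ₜ g₂ c₂) * ((g₁ d₁ ⊗ₜ g₂ d₂) * y) := by
          rw [map_mul, map_mul, ← Algebra.TensorProduct.tmul_mul_tmul]; ring
        rw [e₀, map_add]
      · rw [map_mul (toStalkZ f n z) (g₁ d₁ ⊗ₜ g₂ d₂) ((g₁ c₁ ⊗ₜ g₂ c₂) * x),
          map_mul (toStalkZ f n z) (g₁ c₁ ⊗ₜ g₂ c₂) ((g₁ d₁ ⊗ₜ g₂ d₂) * y), ht, ht', ← hγ, ← hγ, map_add, map_mul, map_mul]
      · rw [AddMonoidHom.add_apply, biAct_mul f n D z (g₁ d₁) (g₂ d₂) ((g₁ c₁ ⊗ₜ g₂ c₂) * x),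
          biAct_mul f n D z (g₁ c₁) (g₂ c₂) ((g₁ d₁ ⊗ₜ g₂ d₂) * y), htm, htm', map_add, LinearMap.add_apply,
          swapAct_mul_apply, swapAct_mul_apply]
        rfl
  obtain ⟨c₁, c₂, t, hc₁, hc₂, ht, htm⟩ := hfrac τ
  rw [map_mul, hτ, mul_zero] at ht
  letI := (PrinPart.nbhd f n).presheaf.algebra_section_stalk (U := PrinPart.pr1 f n ⁻¹ᵁ U.1) ⟨z, hz⟩
  haveI := hZu.isLocalization_stalk ⟨z, hz⟩
  have ht' : algebraMap _ ((PrinPart.nbhd f n).presheaf.stalk z) (ψ t) = 0 := ht.symm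
  obtain ⟨c, hc⟩ := (IsLocalization.map_eq_zero_iff (hZu.primeIdealOf ⟨z, hz⟩).asIdeal.primeCompl _ _).1 ht'
  obtain ⟨tc, htc⟩ := hsurj c.1
  have hmem : tc * t ∈ KaehlerDifferential.ideal Γ(S, V.1) Γ(X, U.1) ^ (n + 1) := by
    rw [← hker, RingHom.mem_ker, map_mul, htc]
    exact hc
  have hγ0 : ∀ x ∈ KaehlerDifferential.ideal Γ(S, V.1) Γ(X, U.1) ^ (n + 1), γ x = 0 := fun x hx => by
    rw [← hker, RingHom.mem_ker] at hx
    show (PrinPart.nbhd f n).presheaf.germ _ z hz (ψ x) = 0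
    rw [hx, map_zero]
  have hu : IsUnit (γ tc) := by
    show IsUnit (algebraMap _ ((PrinPart.nbhd f n).presheaf.stalk z) (ψ tc))
    rw [htc]
    exact IsLocalization.map_units _ c
  have hu₁ : IsUnit (g₁ (Algebra.TensorProduct.lmul' Γ(S, V.1) tc)) := by
    have h := isUnit_lmul_tmul_one γ hγ0 hu
    rw [hγ, toStalkZ_tmul, map_one, map_one, mul_one] at h
    exact isUnit_of_map_unit _ _ h
  have hswap := swapAct_eq_zero_of_mul DA hDA tc t (fun w hw => (hu₁.smul_eq_zero).1 hw) hmem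
  ext m
  obtain ⟨v₂, hv₂⟩ := hc₂
  have h := htm ((↑v₂⁻¹ : X.presheaf.stalk (PrinPart.pr2 f n z)) • m)
  rw [biAct_mul, hswap, LinearMap.zero_apply, ← hv₂, smul_smul, Units.mul_inv, one_smul] at h
  exact (hc₁.smul_eq_zero).1 h

/-- The stalk map out of the pullback along the second projection. -/
noncomputable def stalkLift (hlin : IsBaseLinear f D) (halt : AltVanishes n D) (z : PrinPart.nbhd f n) :
    (PrinPart.nbhd f n).presheaf.stalk z →+ (St F (PrinPart.pr2 f n z) →+ St G (PrinPart.pr1 f n z)) :=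
  AddMonoidHom.mk' (fun r => biAct f n D z (Function.surjInv (toStalkZ_surjective f n z) r)) fun r r' => by
    rw [← map_add, ← sub_eq_zero, ← map_sub]
    refine biAct_eq_zero f n D hlin halt z _ ?_
    simp [map_sub, map_add, Function.surjInv_eq]

theorem stalkLift_toStalkZ (hlin : IsBaseLinear f D) (halt : AltVanishes n D) (z : PrinPart.nbhd f n)
    (τ : X.presheaf.stalk (PrinPart.pr1 f n z) ⊗[ℤ] X.presheaf.stalk (PrinPart.pr2 f n z)) :
    stalkLift f n D hlin halt z (toStalkZ f n z τ) = biAct f n D z τ := by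
  show biAct f n D z _ = _
  rw [← sub_eq_zero, ← map_sub]
  refine biAct_eq_zero f n D hlin halt z _ ?_
  simp [map_sub, Function.surjInv_eq]

/-- On germs of sections of the pullback: existence of a map sending `a • d^n t` to `a • D t`. -/
theorem exists_stalk_map (hlin : IsBaseLinear f D) (halt : AltVanishes n D) (z : PrinPart.nbhd f n) :
    ∃ φ : St ((Scheme.Modules.pullback (PrinPart.pr2 f n)).obj F) z →+ St G (PrinPart.pr1 f n z),
      (∀ (a : X.presheaf.stalk (PrinPart.pr1 f n z)) w, φ ((PrinPart.pr1 f n).stalkMap z a • w) = a • φ w) ∧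
      (∀ (W : X.Opens) (hW : z ∈ PrinPart.pr2 f n ⁻¹ᵁ W) (s : Γ(F, W)),
        φ (gm _ hW (OmegaSh.pullSect (PrinPart.pr2 f n) F W s)) = stalkOp f n D z (gm F hW s)) := by
  let E := ((KFlatLib.stalkPullbackIso (PrinPart.pr2 f n) z).app F).toLinearEquiv
  have hbal : ∀ (b : X.presheaf.stalk (PrinPart.pr2 f n z)) (r : (PrinPart.nbhd f n).presheaf.stalk z)
      (m : St F (PrinPart.pr2 f n z)),
      stalkLift f n D hlin halt z ((PrinPart.pr2 f n).stalkMap z b * r) m =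
        stalkLift f n D hlin halt z r (b • m) := by
    intro b r m
    obtain ⟨τ, rfl⟩ := toStalkZ_surjective f n z r
    have e : (PrinPart.pr2 f n).stalkMap z b = toStalkZ f n z (1 ⊗ₜ b) := by
      rw [toStalkZ_tmul, map_one, one_mul]
    rw [e, ← map_mul, stalkLift_toStalkZ, stalkLift_toStalkZ, biAct_mul, one_smul]
  let L : ((ModuleCat.restrictScalars ((PrinPart.pr2 f n).stalkMap z).hom).obj
      (ModuleCat.of _ ((PrinPart.nbhd f n).presheaf.stalk z))) ⊗[X.presheaf.stalk (PrinPart.pr2 f n z)]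
        St F (PrinPart.pr2 f n z) →+ St G (PrinPart.pr1 f n z) :=
    TensorProduct.liftAddHom
      (AddMonoidHom.mk' (fun r => stalkLift f n D hlin halt z (show (PrinPart.nbhd f n).presheaf.stalk z from r))
        (fun r r' => map_add (stalkLift f n D hlin halt z) (show (PrinPart.nbhd f n).presheaf.stalk z from r)
          (show (PrinPart.nbhd f n).presheaf.stalk z from r')))
      (fun b r m => hbal b r m)
  refine ⟨L.comp E.toLinearMap.toAddMonoidHom, fun a w => ?_, fun W hW s => ?_⟩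
  · show L (E ((PrinPart.pr1 f n).stalkMap z a • w)) = a • L (E w)
    rw [map_smul]
    generalize E w = v
    induction v using TensorProduct.induction_on with
    | zero =>
      exact (congrArg L (smul_zero ((PrinPart.pr1 f n).stalkMap z a) : ((PrinPart.pr1 f n).stalkMap z a) • (0 : ((ModuleCat.extendScalars ((PrinPart.pr2 f n).stalkMap z).hom).obj (St F (PrinPart.pr2 f n z)))) = 0)).trans ((map_zero L).trans
        ((smul_zero a).symm.trans (congrArg (a • ·) (map_zero L).symm)))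
    | add x y hx hy =>
      exact (congrArg L (smul_add ((PrinPart.pr1 f n).stalkMap z a) (show ((ModuleCat.extendScalars ((PrinPart.pr2 f n).stalkMap z).hom).obj (St F (PrinPart.pr2 f n z))) from x) (show ((ModuleCat.extendScalars ((PrinPart.pr2 f n).stalkMap z).hom).obj (St F (PrinPart.pr2 f n z))) from y))).trans
        ((map_add L _ _).trans
        ((congrArg₂ (· + ·) hx hy).trans ((smul_add a _ _).symm.trans (congrArg (a • ·) (map_add L x y).symm))))
    | tmul r m =>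
      show stalkLift f n D hlin halt z ((PrinPart.pr1 f n).stalkMap z a *
        (show (PrinPart.nbhd f n).presheaf.stalk z from r)) m =
          a • stalkLift f n D hlin halt z (show (PrinPart.nbhd f n).presheaf.stalk z from r) m
      obtain ⟨τ, hτ⟩ := toStalkZ_surjective f n z (show (PrinPart.nbhd f n).presheaf.stalk z from r)
      have e : (PrinPart.pr1 f n).stalkMap z a = toStalkZ f n z (a ⊗ₜ 1) := by
        rw [toStalkZ_tmul, map_one, mul_one]
      rw [← hτ, e, ← map_mul, stalkLift_toStalkZ, stalkLift_toStalkZ, biAct_mul, one_smul]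
  · show L (E (gm _ hW (OmegaSh.pullSect (PrinPart.pr2 f n) F W s))) = _
    rw [show E (gm _ hW (OmegaSh.pullSect (PrinPart.pr2 f n) F W s)) = _ from
      stalkPullbackIso_gm (PrinPart.pr2 f n) F z hW s]
    show stalkLift f n D hlin halt z (1 : (PrinPart.nbhd f n).presheaf.stalk z) (gm F hW s) = _
    rw [← map_one (toStalkZ f n z), stalkLift_toStalkZ, Algebra.TensorProduct.one_def, biAct_tmul, one_smul,
      one_smul]

theorem isDiffOpLE_of_alt (hlin : IsBaseLinear f D) (halt : AltVanishes n D) :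
    PrinPart.IsDiffOpLE f F G n D := by
  choose φ hφs hφ using exists_stalk_map f n D hlin halt
  let R : ∀ V : X.Opens, Γ(PrinPart.PMod f n F, V) → Γ(G, V) → Prop := fun V σ g =>
    ∀ (z : PrinPart.nbhd f n) (hz : z ∈ PrinPart.pr1 f n ⁻¹ᵁ V),
      φ z (gm ((Scheme.Modules.pullback (PrinPart.pr2 f n)).obj F) hz σ) = gm G hz g
  have hp : ∀ y : X, PrinPart.pr1 f n (PrinPart.toNbhd f n y) = y := fun y => by
    rw [← Scheme.Hom.comp_apply, PrinPart.toNbhd_pr1]; rfl
  have huniq : ∀ V σ g g', R V σ g → R V σ g' → g = g' := by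
    intro V σ g g' h h'
    refine TopCat.Presheaf.section_ext ⟨G.presheaf, G.isSheaf⟩ V _ _ fun y hy => ?_
    have key : ∀ (y' : X) (hy' : y' ∈ V), (∃ z, PrinPart.pr1 f n z = y') →
        G.presheaf.germ V y' hy' g = G.presheaf.germ V y' hy' g' := by
      rintro _ hy' ⟨z, rfl⟩
      exact (h z hy').symm.trans (h' z hy')
    exact key y hy ⟨_, hp y⟩
  have hres : ∀ {V V' : X.Opens} (hV : V' ≤ V) {σ g}, R V σ g →
      R V' ((PrinPart.PMod f n F).presheaf.map (homOfLE hV).op σ) (G.presheaf.map (homOfLE hV).op g) := by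
    intro V V' hV σ g h z hz
    rw [gm_res' f n F hV hz σ, gm_res G (homOfLE hV) hz g]
    exact h z _
  have hadd : ∀ {V σ g σ' g'}, R V σ g → R V σ' g' → R V (σ + σ') (g + g') := by
    intro V σ g σ' g' h h' z hz
    rw [map_add, ← h z hz, ← h' z hz, ← map_add]
    exact congrArg (φ z) (map_add _ _ _)
  have hsmul : ∀ {V σ g} (a : Γ(X, V)), R V σ g → R V (a • σ) (a • g) := by
    intro V σ g a h z hz
    show φ z (gm ((Scheme.Modules.pullback (PrinPart.pr2 f n)).obj F) hz ((PrinPart.pr1 f n).app V a •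
      (show Γ((Scheme.Modules.pullback (PrinPart.pr2 f n)).obj F, PrinPart.pr1 f n ⁻¹ᵁ V) from σ))) = _
    rw [gm_smul, ← Scheme.Hom.germ_stalkMap_apply, hφs, gm_smul]
    exact congrArg (X.presheaf.germ V _ hz a • ·) (h z hz)
  have hd : ∀ V t, R V (PrinPart.dP f n F V t) (D.app (op V) t) := by
    intro V t z hz
    rw [PrinPart.dP_apply, gm_res, hφ, stalkOp_gm]
  have hspan : ∀ {V : X.Opens} {σ}, σ ∈ Submodule.span Γ(X, V) (Set.range (PrinPart.dP f n F V)) → ∃ g, R V σ g := by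
    intro V σ hσ
    induction hσ using Submodule.span_induction with
    | mem x hx => obtain ⟨t, rfl⟩ := hx; exact ⟨_, hd V t⟩
    | zero => exact ⟨0, fun z hz => by rw [map_zero]; exact (congrArg (φ z) (map_zero _)).trans (map_zero _)⟩
    | add x y _ _ hx hy =>
      obtain ⟨g, hg⟩ := hx; obtain ⟨g', hg'⟩ := hy
      exact ⟨_, hadd hg hg'⟩
    | smul a x _ hx => obtain ⟨g, hg⟩ := hx; exact ⟨_, hsmul a hg⟩
  have hex : ∀ U σ, ∃ g, R U σ g := by
    intro U σ
    choose V hVU hxV hmem using fun x : U => exists_mem_span f n F U σ x.1 x.2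
    choose g hg using fun x : U => hspan (hmem x)
    have hcompat : TopCat.Presheaf.IsCompatible G.presheaf V g := by
      intro i j
      refine huniq _ ((PrinPart.PMod f n F).presheaf.map (homOfLE (inf_le_left.trans (hVU i))).op σ) _ _ ?_ ?_
      · have := hres (inf_le_left : V i ⊓ V j ≤ V i) (hg i)
        rw [Nrm6.resM_resM' _ _ (homOfLE (inf_le_left.trans (hVU i)))] at this
        exact this
      · have := hres (inf_le_right : V i ⊓ V j ≤ V j) (hg j)
        rw [Nrm6.resM_resM' _ _ (homOfLE (inf_le_left.trans (hVU i)))] at this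
        exact this
    obtain ⟨g₀, hg₀, -⟩ := TopCat.Sheaf.existsUnique_gluing' ⟨G.presheaf, G.isSheaf⟩ V U
      (fun i => homOfLE (hVU i)) (fun x hx => Opens.mem_iSup.2 ⟨⟨x, hx⟩, hxV ⟨x, hx⟩⟩) g hcompat
    refine ⟨g₀, fun z hz => ?_⟩
    let i : U := ⟨PrinPart.pr1 f n z, hz⟩
    have h1 := hg i z (hxV i)
    rw [gm_res' f n F (hVU i) (hxV i) σ, ← show G.presheaf.map (homOfLE (hVU i)).op g₀ = g i from hg₀ i,
      gm_res G (homOfLE (hVU i)) (hxV i) g₀] at h1
    exact h1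
  choose u hu using hex
  let uh : (PrinPart.PMod f n F).presheaf ⟶ G.presheaf :=
    { app := fun U => AddCommGrpCat.ofHom (AddMonoidHom.mk' (u U.unop) fun σ σ' =>
        huniq _ _ _ _ (hu _ _) (hadd (hu _ _) (hu _ _)))
      naturality := fun U V i => by
        ext σ
        exact huniq _ _ _ _ (hu _ _) (hres i.unop.le (hu U.unop σ)) }
  refine ⟨⟨PresheafOfModules.homMk uh fun U a σ => huniq _ _ _ _ (hu _ _) (hsmul a (hu _ _))⟩, fun U t => ?_⟩
  exact huniq _ _ _ _ (hd U t) (hu U _)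

theorem isBaseLinear_of_isDiffOpLE (h : PrinPart.IsDiffOpLE f F G n D) : IsBaseLinear f D := by
  obtain ⟨u, hu⟩ := h
  intro V s U hU t
  rw [hu, hu, ← Scheme.Modules.Hom.app_smul]
  congr 1
  rw [PrinPart.dP_apply, OmegaSh.pullSect_smul, Scheme.Modules.map_smul]
  show _ = (PrinPart.pr1 f n).app U (X.presheaf.map (homOfLE hU).op (f.app V s)) •
    (show Γ((Scheme.Modules.pullback (PrinPart.pr2 f n)).obj F, PrinPart.pr1 f n ⁻¹ᵁ U) from PrinPart.dP f n F U t)
  congr 1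
  simp only [Scheme.Hom.app_eq_appLE, ← CommRingCat.comp_apply, Scheme.Hom.appLE_map, Scheme.Hom.map_appLE,
    Category.assoc, Scheme.Hom.appLE_comp_appLE]
  exact appLE_congr_hom (PrinPart.pr1_comp f n).symm _ _ _ _

/-- Products of `n + 1` differences of the two projections vanish on the neighbourhood. -/
theorem prod_sub_eq_zero (U : X.Opens) (a : Fin (n + 1) → Γ(X, U)) :
    ∏ i, ((PrinPart.pr2 f n).appLE U (PrinPart.pr1 f n ⁻¹ᵁ U) (PrinPart.preimage_pr1 f n U).le (a i) -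
      (PrinPart.pr1 f n).app U (a i)) = 0 := by
  refine TopCat.Presheaf.section_ext (PrinPart.nbhd f n).sheaf _ _ _ fun z hz => ?_
  obtain ⟨V, U', hx₁, e⟩ := exists_affine_pair f (PrinPart.pr1 f n z)
  obtain ⟨_, ⟨W, hW, rfl⟩, hxW, hWle⟩ := X.isBasis_affineOpens.exists_subset_of_mem_open
    (show PrinPart.pr1 f n z ∈ (U'.1 ⊓ U : X.Opens) from ⟨hx₁, hz⟩) (U'.1 ⊓ U).isOpen
  have eW : (W : X.Opens) ≤ f ⁻¹ᵁ V.1 := fun x hx => e (hWle hx).1
  have hWU : (W : X.Opens) ≤ U := fun x hx => (hWle hx).2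
  letI := (f.appLE V.1 W eW).hom.toAlgebra
  obtain ⟨-, ψ, -, hker, hl, hr⟩ := exists_chart f V ⟨W, hW⟩ eW n rfl
  let b : Fin (n + 1) → Γ(X, W) := fun i => X.presheaf.map (homOfLE hWU).op (a i)
  have hmem : ∏ i, ((1 : Γ(X, W)) ⊗ₜ[Γ(S, V.1)] b i - b i ⊗ₜ (1 : Γ(X, W))) ∈
      KaehlerDifferential.ideal Γ(S, V.1) Γ(X, W) ^ (n + 1) := by
    have := Ideal.prod_mem_prod (s := Finset.univ) (I := fun _ : Fin (n + 1) =>
        KaehlerDifferential.ideal Γ(S, V.1) Γ(X, W))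
      (x := fun i => (1 : Γ(X, W)) ⊗ₜ[Γ(S, V.1)] b i - b i ⊗ₜ (1 : Γ(X, W)))
      (fun i _ => KaehlerDifferential.one_smul_sub_smul_one_mem_ideal Γ(S, V.1) (b i))
    simpa using this
  rw [← hker, RingHom.mem_ker, map_prod] at hmem
  have h1 := congrArg ((PrinPart.nbhd f n).presheaf.germ _ z (show z ∈ PrinPart.pr1 f n ⁻¹ᵁ W from hxW)) hmem
  rw [map_zero, map_prod] at h1
  show (PrinPart.nbhd f n).presheaf.germ _ z hz (∏ i, _) = (PrinPart.nbhd f n).presheaf.germ _ z hz 0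
  rw [map_zero, map_prod]
  refine Eq.trans (Finset.prod_congr rfl fun i _ => ?_) h1
  rw [map_sub ψ, hl, hr, map_sub, map_sub, germ_appLE_stalkMap, germ_appLE_stalkMap,
    ← Scheme.Hom.germ_stalkMap_apply, ← Scheme.Hom.germ_stalkMap_apply]
  congr 1 <;> exact congrArg _ (X.presheaf.germ_res_apply _ _ _ _).symm

theorem alt_of_isDiffOpLE (h : PrinPart.IsDiffOpLE f F G n D) : AltVanishes n D := by
  obtain ⟨u, hu⟩ := h
  intro U a t
  let M := (Scheme.Modules.pullback (PrinPart.pr2 f n)).obj F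
  let P := PrinPart.pr1 f n ⁻¹ᵁ U
  let p₁ := ((PrinPart.pr1 f n).app U).hom
  let p₂ := ((PrinPart.pr2 f n).appLE U P (PrinPart.preimage_pr1 f n U).le).hom
  have hsmul : ∀ (c : Γ(X, U)), PrinPart.dP f n F U (c • t) =
      (show Γ(M, P) from p₂ c • (show Γ(M, P) from PrinPart.dP f n F U t)) := fun c => by
    rw [PrinPart.dP_apply, OmegaSh.pullSect_smul, Scheme.Modules.map_smul]
    rfl
  have hsum : ∑ H : Finset (Fin (n + 1)),
      ((-1 : ℤ) ^ H.card) • ((∏ i ∈ H, a i) • PrinPart.dP f n F U ((∏ i ∈ Hᶜ, a i) • t)) = 0 := by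
    show (show Γ(M, P) from _) = (0 : Γ(M, P))
    have e : ∀ H : Finset (Fin (n + 1)),
        ((-1 : ℤ) ^ H.card) • ((∏ i ∈ H, a i) • PrinPart.dP f n F U ((∏ i ∈ Hᶜ, a i) • t)) =
          ((((-1 : ℤ) ^ H.card : ℤ) : Γ(PrinPart.nbhd f n, P)) * ((∏ i ∈ H, p₁ (a i)) * ∏ i ∈ Hᶜ, p₂ (a i))) •
            (show Γ(M, P) from PrinPart.dP f n F U t) := by
      intro H
      rw [mul_smul, mul_smul, Int.cast_smul_eq_zsmul, ← map_prod p₁, ← map_prod p₂, hsmul]
      rfl
    refine Eq.trans (Finset.sum_congr rfl fun H _ => e H) ?_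
    refine (Finset.sum_smul (R := Γ(PrinPart.nbhd f n, P)) (M := Γ(M, P))).symm.trans ?_
    have hprod : ∑ H : Finset (Fin (n + 1)),
        (((-1 : ℤ) ^ H.card : ℤ) : Γ(PrinPart.nbhd f n, P)) * ((∏ i ∈ H, p₁ (a i)) * ∏ i ∈ Hᶜ, p₂ (a i)) =
          ∏ i, (p₂ (a i) - p₁ (a i)) := by
      simp_rw [sub_eq_neg_add]
      rw [Finset.prod_add, Finset.powerset_univ]
      refine Finset.sum_congr rfl fun H _ => ?_
      rw [Finset.prod_neg, Finset.compl_eq_univ_sdiff]
      push_cast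
      ring
    rw [hprod, show ∏ i, (p₂ (a i) - p₁ (a i)) = 0 from prod_sub_eq_zero f n U a, zero_smul]
  have h2 := congrArg (u.app U) hsum
  rw [map_sum, map_zero] at h2
  refine Eq.trans (Finset.sum_congr rfl fun H _ => ?_) h2
  rw [map_zsmul, Scheme.Modules.Hom.app_smul, hu]

/-- The alternating sum criterion. -/
theorem isDiffOpLE_iff_alt (hlin : IsBaseLinear f D) :
    PrinPart.IsDiffOpLE f F G n D ↔ AltVanishes n D :=
  ⟨alt_of_isDiffOpLE f n D, isDiffOpLE_of_alt f n D hlin⟩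

end Groth.Agent.PPSheaf
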