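import Groth.Agent.PPSheaf.Chart
import Groth.Agent.Synt29.OmegaStalk
import Groth.Agent.Nrm6.PMod
import Mathlib.LinearAlgebra.TensorProduct.Basic

/-!
# The sheaf of principal parts is generated by the image of `d^n`
-/

set_option autoImplicit false

universe u

open CategoryTheory CategoryTheory.Limits AlgebraicGeometry TopologicalSpace Opposite
open scoped TensorProduct

namespace Groth.Agent.PPSheaf

open Groth.Agent.Synt29.OmegaStalk

variable {X S : Scheme.{u}} (f : X ⟶ S) (n : ℕ)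

theorem exists_affine_pair (x : X) :
    ∃ (V : S.affineOpens) (U : X.affineOpens), x ∈ U.1 ∧ U.1 ≤ f ⁻¹ᵁ V.1 := by
  obtain ⟨_, ⟨V, hV, rfl⟩, hxV, -⟩ :=
    S.isBasis_affineOpens.exists_subset_of_mem_open (Set.mem_univ (f x)) isOpen_univ
  obtain ⟨_, ⟨U, hU, rfl⟩, hxU, hUV⟩ :=
    X.isBasis_affineOpens.exists_subset_of_mem_open (show x ∈ (f ⁻¹ᵁ V : Set X) from hxV) (f ⁻¹ᵁ V).isOpen
  exact ⟨⟨V, hV⟩, ⟨U, hU⟩, hxU, hUV⟩

/-- The ring spanned by products of left and right germs. -/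
noncomputable def prodGerms (z : PrinPart.nbhd f n) : Subring ((PrinPart.nbhd f n).presheaf.stalk z) :=
  (Algebra.TensorProduct.productMap ((PrinPart.pr1 f n).stalkMap z).hom.toIntAlgHom
    ((PrinPart.pr2 f n).stalkMap z).hom.toIntAlgHom).toRingHom.range

theorem pr1_mem_prodGerms (z : PrinPart.nbhd f n) (a : X.presheaf.stalk (PrinPart.pr1 f n z)) :
    (PrinPart.pr1 f n).stalkMap z a ∈ prodGerms f n z :=
  ⟨a ⊗ₜ 1, by
    show Algebra.TensorProduct.productMap _ _ (a ⊗ₜ 1) = _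
    rw [Algebra.TensorProduct.productMap_apply_tmul, map_one, mul_one]; rfl⟩

theorem pr2_mem_prodGerms (z : PrinPart.nbhd f n) (b : X.presheaf.stalk (PrinPart.pr2 f n z)) :
    (PrinPart.pr2 f n).stalkMap z b ∈ prodGerms f n z :=
  ⟨1 ⊗ₜ b, by
    show Algebra.TensorProduct.productMap _ _ (1 ⊗ₜ b) = _
    rw [Algebra.TensorProduct.productMap_apply_tmul, map_one, one_mul]; rfl⟩

theorem germ_appLE_stalkMap {Y Z : Scheme.{u}} (g : Y ⟶ Z) (U : Z.Opens) (W : Y.Opens) (h : W ≤ g ⁻¹ᵁ U)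
    (y : Y) (hy : y ∈ W) (b : Γ(Z, U)) :
    Y.presheaf.germ W y hy (g.appLE U W h b) = g.stalkMap y (Z.presheaf.germ U (g y) (h hy) b) := by
  refine Eq.symm ((Scheme.Hom.germ_stalkMap_apply g U y (h hy) b).trans ?_)
  rw [Scheme.Hom.appLE, CommRingCat.comp_apply]
  exact (Y.presheaf.germ_res_apply _ y hy _).symm

theorem prodGerms_eq_top (z : PrinPart.nbhd f n) : prodGerms f n z = ⊤ := by
  obtain ⟨V, U, hxU, e⟩ := exists_affine_pair f (PrinPart.pr1 f n z)
  letI := (f.appLE V.1 U.1 e).hom.toAlgebra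
  obtain ⟨hZu, ψ, hsurj, hker, hl, hr⟩ := exists_chart f V U e n rfl
  have hz : z ∈ PrinPart.pr1 f n ⁻¹ᵁ U.1 := hxU
  let γ : Γ(X, U.1) ⊗[Γ(S, V.1)] Γ(X, U.1) →+* (PrinPart.nbhd f n).presheaf.stalk z :=
    ((PrinPart.nbhd f n).presheaf.germ _ z hz).hom.comp ψ
  have hγl : ∀ b, γ (b ⊗ₜ 1) = (PrinPart.pr1 f n).stalkMap z (X.presheaf.germ U.1 _ hxU b) := fun b => by
    show (PrinPart.nbhd f n).presheaf.germ _ z hz (ψ (b ⊗ₜ 1)) = _
    rw [hl, Scheme.Hom.germ_stalkMap_apply]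
  have hγ : ∀ t, γ t ∈ prodGerms f n z := by
    intro t
    induction t with
    | zero => rw [map_zero]; exact zero_mem _
    | add a b ha hb => rw [map_add]; exact add_mem ha hb
    | tmul a b =>
      rw [show a ⊗ₜ[Γ(S, V.1)] b = (a ⊗ₜ 1) * (1 ⊗ₜ b) by simp, map_mul]
      refine mul_mem (hγl a ▸ pr1_mem_prodGerms f n z _) ?_
      show (PrinPart.nbhd f n).presheaf.germ _ z hz (ψ (1 ⊗ₜ b)) ∈ _
      rw [hr, germ_appLE_stalkMap]
      exact pr2_mem_prodGerms f n z _
  -- fractions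
  have hinv : ∀ t, IsUnit (γ t) → ∃ y ∈ prodGerms f n z, γ t * y = 1 := by
    intro t ht
    let m := Algebra.TensorProduct.lmul' Γ(S, V.1) t
    have hi : t - m ⊗ₜ 1 ∈ KaehlerDifferential.ideal Γ(S, V.1) Γ(X, U.1) := by
      rw [KaehlerDifferential.ideal, RingHom.mem_ker]
      show Algebra.TensorProduct.lmul' Γ(S, V.1) _ = 0
      simp [m]
    have hnil : IsNilpotent (γ (t - m ⊗ₜ 1)) := by
      refine ⟨n + 1, ?_⟩
      rw [← map_pow]
      show (PrinPart.nbhd f n).presheaf.germ _ z hz (ψ _) = 0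
      rw [(show ψ ((t - m ⊗ₜ 1) ^ (n + 1)) = 0 from
        (RingHom.mem_ker).1 (hker ▸ Ideal.pow_mem_pow hi (n + 1))), map_zero]
    have hu : IsUnit (γ (m ⊗ₜ 1)) := by
      have h := hnil.neg.isUnit_add_left_of_commute ht (Commute.all _ _)
      rwa [map_sub, neg_sub, add_sub_cancel] at h
    rw [hγl] at hu
    obtain ⟨v, hv⟩ := isUnit_of_map_unit _ _ hu
    set w := (PrinPart.pr1 f n).stalkMap z (↑v⁻¹ : X.presheaf.stalk _) with hw
    have hwm : γ (m ⊗ₜ 1) * w = 1 := by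
      rw [hγl, hw, ← map_mul, ← hv, Units.mul_inv, map_one]
    set q := -(γ (t - m ⊗ₜ 1) * w) with hq
    have hqn : q ^ (n + 1) = 0 := by
      rw [hq, neg_pow, mul_pow, ← map_pow]
      show (-1) ^ (n + 1) * ((PrinPart.nbhd f n).presheaf.germ _ z hz (ψ _) * _) = 0
      rw [(show ψ ((t - m ⊗ₜ 1) ^ (n + 1)) = 0 from
        (RingHom.mem_ker).1 (hker ▸ Ideal.pow_mem_pow hi (n + 1))), map_zero, zero_mul, mul_zero]
    have hwG : w ∈ prodGerms f n z := pr1_mem_prodGerms f n z _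
    refine ⟨w * ∑ k ∈ Finset.range (n + 1), q ^ k, mul_mem hwG (sum_mem fun k _ =>
      pow_mem (neg_mem (mul_mem (hγ _) hwG)) k), ?_⟩
    have hprod : γ t * w = 1 - q := by
      rw [hq, map_sub, sub_mul, hwm]; ring
    rw [← mul_assoc, hprod, mul_neg_geom_sum, hqn, sub_zero]
  refine eq_top_iff.2 fun s _ => ?_
  letI := (PrinPart.nbhd f n).presheaf.algebra_section_stalk (U := PrinPart.pr1 f n ⁻¹ᵁ U.1) ⟨z, hz⟩
  haveI := hZu.isLocalization_stalk ⟨z, hz⟩
  obtain ⟨⟨a, c⟩, hac⟩ := IsLocalization.surj (hZu.primeIdealOf ⟨z, hz⟩).asIdeal.primeCompl s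
  obtain ⟨ta, rfl⟩ := hsurj a
  obtain ⟨tc, htc⟩ := hsurj c.1
  have hcu : IsUnit (γ tc) := by
    show IsUnit ((PrinPart.nbhd f n).presheaf.germ _ z hz (ψ tc))
    rw [htc]
    exact IsLocalization.map_units ((PrinPart.nbhd f n).presheaf.stalk z) c
  obtain ⟨y, hy, hy1⟩ := hinv tc hcu
  have hs : s = γ ta * y := by
    have h1 : s * γ tc = γ ta := by
      show s * (PrinPart.nbhd f n).presheaf.germ _ z hz (ψ tc) = _
      rw [htc]
      exact hac
    rw [← h1, mul_assoc, hy1, mul_one]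
  exact hs ▸ mul_mem (hγ _) hy

variable (F : X.Modules)

open scoped ChangeOfRings in
set_option backward.isDefEq.respectTransparency false in
theorem smul_one_tmul {R T : Type u} [CommRing R] [CommRing T] (φ : R →+* T) (M : ModuleCat.{u} R) (t : T) (m : M) :
    t • ((1 : T) ⊗ₜ[R,φ] m : (ModuleCat.extendScalars φ).obj M) = (t ⊗ₜ[R,φ] m : (ModuleCat.extendScalars φ).obj M) := by
  rw [ModuleCat.ExtendScalars.smul_tmul, mul_one]

theorem span_pullSect_eq_top {Y Z : Scheme.{u}} (h : Y ⟶ Z) (M : Z.Modules) (y : Y) :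
    Submodule.span (Y.presheaf.stalk y)
      {m : St ((Scheme.Modules.pullback h).obj M) y | ∃ (W : Z.Opens) (hW : y ∈ h ⁻¹ᵁ W) (s : Γ(M, W)),
        gm _ hW (OmegaSh.pullSect h M W s) = m} = ⊤ := by
  let E := ((KFlatLib.stalkPullbackIso h y).app M).toLinearEquiv
  refine Submodule.map_injective_of_injective (f := E.toLinearMap) E.injective ?_
  rw [Submodule.map_top, LinearEquiv.range, Submodule.map_span, eq_top_iff]
  rintro w -
  induction w using TensorProduct.induction_on with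
  | zero => exact zero_mem _
  | add a b ha hb => exact add_mem ha hb
  | tmul r m =>
    obtain ⟨W, hW, s, hs⟩ := gm_surjective M m
    have hg := stalkPullbackIso_gm h M y (U := W) hW s
    subst hs
    let r' : Y.presheaf.stalk y := r
    have key := Submodule.smul_mem _ r' (Submodule.subset_span (R := Y.presheaf.stalk y)
      (s := E.toLinearMap '' {m : St ((Scheme.Modules.pullback h).obj M) y | ∃ (W : Z.Opens)
        (hW : y ∈ h ⁻¹ᵁ W) (s : Γ(M, W)), gm _ hW (OmegaSh.pullSect h M W s) = m})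
      ⟨_, ⟨W, hW, s, rfl⟩, rfl⟩)
    rw [show E.toLinearMap (gm ((Scheme.Modules.pullback h).obj M) hW (OmegaSh.pullSect h M W s)) = _ from hg] at key
    exact (smul_one_tmul (h.stalkMap y).hom (St M (h y)) r' (gm M hW s)) ▸ key

/-- Restriction respects the span of the image of `d^n`. -/
theorem res_mem_span {U V : X.Opens} (h : V ≤ U) {σ : Γ(PrinPart.PMod f n F, U)}
    (hσ : σ ∈ Submodule.span Γ(X, U) (Set.range (PrinPart.dP f n F U))) :
    (PrinPart.PMod f n F).presheaf.map (homOfLE h).op σ ∈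
      Submodule.span Γ(X, V) (Set.range (PrinPart.dP f n F V)) := by
  induction hσ using Submodule.span_induction with
  | mem x hx =>
    obtain ⟨t, rfl⟩ := hx
    rw [← PrinPart.dP_map]
    exact Submodule.subset_span ⟨_, rfl⟩
  | zero => rw [map_zero]; exact zero_mem _
  | add x y _ _ hx hy => rw [map_add]; exact add_mem hx hy
  | smul a x _ hx => rw [Scheme.Modules.map_smul]; exact Submodule.smul_mem _ _ hx

/-- The germs at `z` of combinations of `d^n`. -/
def IsGen (z : PrinPart.nbhd f n) (m : St ((Scheme.Modules.pullback (PrinPart.pr2 f n)).obj F) z) : Prop :=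
  ∃ (V : X.Opens) (hV : z ∈ PrinPart.pr1 f n ⁻¹ᵁ V) (σ : Γ(PrinPart.PMod f n F, V)),
    σ ∈ Submodule.span Γ(X, V) (Set.range (PrinPart.dP f n F V)) ∧
      gm ((Scheme.Modules.pullback (PrinPart.pr2 f n)).obj F) hV σ = m

theorem gm_res' {V V' : X.Opens} (h : V' ≤ V) {z : PrinPart.nbhd f n} (hz : z ∈ PrinPart.pr1 f n ⁻¹ᵁ V')
    (σ : Γ(PrinPart.PMod f n F, V)) :
    gm ((Scheme.Modules.pullback (PrinPart.pr2 f n)).obj F) hz
        ((PrinPart.PMod f n F).presheaf.map (homOfLE h).op σ) =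
      gm ((Scheme.Modules.pullback (PrinPart.pr2 f n)).obj F) ((PrinPart.pr1 f n).preimage_mono h hz) σ :=
  gm_res _ (homOfLE ((PrinPart.pr1 f n).preimage_mono h)) hz σ

theorem isGen_add {z : PrinPart.nbhd f n} {m m' : St ((Scheme.Modules.pullback (PrinPart.pr2 f n)).obj F) z}
    (h : IsGen f n F z m) (h' : IsGen f n F z m') : IsGen f n F z (m + m') := by
  obtain ⟨V, hV, σ, hσ, rfl⟩ := h
  obtain ⟨V', hV', σ', hσ', rfl⟩ := h'
  refine ⟨V ⊓ V', ⟨hV, hV'⟩, (PrinPart.PMod f n F).presheaf.map (homOfLE inf_le_left).op σ +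
    (PrinPart.PMod f n F).presheaf.map (homOfLE inf_le_right).op σ',
    add_mem (res_mem_span f n F inf_le_left hσ) (res_mem_span f n F inf_le_right hσ'), ?_⟩
  exact (map_add _ _ _).trans (congrArg₂ (· + ·) (gm_res' f n F inf_le_left _ σ) (gm_res' f n F inf_le_right _ σ'))

theorem isGen_all (z : PrinPart.nbhd f n) (m : St ((Scheme.Modules.pullback (PrinPart.pr2 f n)).obj F) z) :
    IsGen f n F z m := by
  have hzero : IsGen f n F z 0 := ⟨⊤, trivial, 0, zero_mem _, map_zero _⟩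
  have hm : m ∈ (⊤ : Submodule ((PrinPart.nbhd f n).presheaf.stalk z) _) := Submodule.mem_top
  rw [← span_pullSect_eq_top (PrinPart.pr2 f n) F z] at hm
  suffices key : ∀ r : (PrinPart.nbhd f n).presheaf.stalk z, IsGen f n F z (r • m) by
    simpa using key 1
  induction hm using Submodule.span_induction with
  | zero => intro r; rwa [smul_zero]
  | add x y _ _ hx hy => intro r; rw [smul_add]; exact isGen_add f n F (hx r) (hy r)
  | smul c x _ hx => intro r; rw [smul_smul]; exact hx _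
  | mem x hx =>
    obtain ⟨W, hW, s, rfl⟩ := hx
    intro r
    have hr : r ∈ prodGerms f n z := prodGerms_eq_top f n z ▸ Subring.mem_top r
    obtain ⟨τ, rfl⟩ := hr
    induction τ using TensorProduct.induction_on with
    | zero => rw [map_zero, zero_smul]; exact hzero
    | add a b ha hb => rw [map_add, add_smul]; exact isGen_add f n F ha hb
    | tmul a b =>
      obtain ⟨Va, ha, a, rfl⟩ := X.presheaf.exists_germ_eq a
      obtain ⟨Vb, hb, b, rfl⟩ := X.presheaf.exists_germ_eq b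
      let V := Va ⊓ Vb ⊓ W
      have he := PrinPart.preimage_pr1 f n
      have hz1 : z ∈ PrinPart.pr1 f n ⁻¹ᵁ V :=
        ⟨⟨ha, show z ∈ PrinPart.pr1 f n ⁻¹ᵁ Vb from (he Vb).ge hb⟩, show z ∈ PrinPart.pr1 f n ⁻¹ᵁ W from (he W).ge hW⟩
      let a' : Γ(X, V) := X.presheaf.map (homOfLE (inf_le_left.trans inf_le_left)).op a
      let b' : Γ(X, V) := X.presheaf.map (homOfLE (inf_le_left.trans inf_le_right)).op b
      let s' : Γ(F, V) := F.presheaf.map (homOfLE inf_le_right).op s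
      refine ⟨V, hz1, a' • PrinPart.dP f n F V (b' • s'),
        Submodule.smul_mem _ _ (Submodule.subset_span ⟨_, rfl⟩), ?_⟩
      show gm ((Scheme.Modules.pullback (PrinPart.pr2 f n)).obj F) hz1
        ((PrinPart.pr1 f n).app V a' • (show Γ((Scheme.Modules.pullback (PrinPart.pr2 f n)).obj F,
          PrinPart.pr1 f n ⁻¹ᵁ V) from PrinPart.dP f n F V (b' • s'))) = _
      rw [gm_smul, PrinPart.dP_apply, gm_res, OmegaSh.pullSect_smul, gm_smul]
      show _ = (Algebra.TensorProduct.productMap _ _ (_ ⊗ₜ _)) • _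
      rw [Algebra.TensorProduct.productMap_apply_tmul, ← smul_smul]
      have e1 : gm ((Scheme.Modules.pullback (PrinPart.pr2 f n)).obj F) ((he V).le hz1)
          (OmegaSh.pullSect (PrinPart.pr2 f n) F V s') =
          gm _ hW (OmegaSh.pullSect (PrinPart.pr2 f n) F W s) := by
        rw [OmegaSh.pullSect_map, gm_res]
      rw [e1]
      congr 1
      · refine (Scheme.Hom.germ_stalkMap_apply (PrinPart.pr1 f n) V z hz1 a').symm.trans ?_
        exact congrArg ((PrinPart.pr1 f n).stalkMap z) (X.presheaf.germ_res_apply _ _ _ a)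
      · congr 1
        refine (Scheme.Hom.germ_stalkMap_apply (PrinPart.pr2 f n) V z ((he V).le hz1) b').symm.trans ?_
        exact congrArg ((PrinPart.pr2 f n).stalkMap z) (X.presheaf.germ_res_apply _ _ _ b)

/-- Sections of `P^n(F)` are locally combinations of `d^n` of sections. -/
theorem exists_mem_span (U : X.Opens) (σ : Γ(PrinPart.PMod f n F, U)) (x : X) (hx : x ∈ U) :
    ∃ (V : X.Opens) (h : V ≤ U), x ∈ V ∧ (PrinPart.PMod f n F).presheaf.map (homOfLE h).op σ ∈
      Submodule.span Γ(X, V) (Set.range (PrinPart.dP f n F V)) := by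
  have hp : ∀ y : X, PrinPart.pr1 f n (PrinPart.toNbhd f n y) = y := fun y => by
    rw [← Scheme.Hom.comp_apply, PrinPart.toNbhd_pr1]; rfl
  let z := PrinPart.toNbhd f n x
  have hz : z ∈ PrinPart.pr1 f n ⁻¹ᵁ U := show PrinPart.pr1 f n z ∈ U by rw [hp]; exact hx
  obtain ⟨V, hV, τ, hτ, hg⟩ := isGen_all f n F z (gm ((Scheme.Modules.pullback (PrinPart.pr2 f n)).obj F) hz σ)
  obtain ⟨W, hzW, i₁, i₂, hW⟩ :=
    ((Scheme.Modules.pullback (PrinPart.pr2 f n)).obj F).presheaf.germ_eq z hV hz τ σ hg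
  let V' := V ⊓ U ⊓ PrinPart.toNbhd f n ⁻¹ᵁ W
  have hle : PrinPart.pr1 f n ⁻¹ᵁ V' ≤ W := by
    intro w hw
    obtain ⟨y, rfl⟩ := PrinPart.toInfNbhd_surjective (PrinPart.diagCl f) n w
    have h2 : PrinPart.pr1 f n (PrinPart.toNbhd f n y) ∈ PrinPart.toNbhd f n ⁻¹ᵁ W := hw.2
    rw [hp] at h2
    exact h2
  refine ⟨V', inf_le_left.trans inf_le_right, ⟨⟨hp x ▸ hV, hx⟩, hzW⟩, ?_⟩
  have key : (PrinPart.PMod f n F).presheaf.map (homOfLE (show V' ≤ U from inf_le_left.trans inf_le_right)).op σ =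
      (PrinPart.PMod f n F).presheaf.map (homOfLE (show V' ≤ V from inf_le_left.trans inf_le_left)).op τ := by
    have h2 := congrArg (((Scheme.Modules.pullback (PrinPart.pr2 f n)).obj F).presheaf.map (homOfLE hle).op) hW
    have h₁ := Nrm6.resM_resM' (M := (Scheme.Modules.pullback (PrinPart.pr2 f n)).obj F) i₁ (homOfLE hle)
      (homOfLE ((PrinPart.pr1 f n).preimage_mono (show V' ≤ V from inf_le_left.trans inf_le_left))) τ
    have h₂ := Nrm6.resM_resM' (M := (Scheme.Modules.pullback (PrinPart.pr2 f n)).obj F) i₂ (homOfLE hle)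
      (homOfLE ((PrinPart.pr1 f n).preimage_mono (show V' ≤ U from inf_le_left.trans inf_le_right))) σ
    exact h₂.symm.trans (h2.symm.trans h₁)
  rw [key]
  exact res_mem_span f n F _ hτ

/-- Two linear maps out of `P^n(F)` agreeing on `d^n` are equal. -/
theorem hom_ext_dP (G : X.Modules) {a b : PrinPart.PMod f n F ⟶ G}
    (h : ∀ (U : X.Opens) (t : Γ(F, U)), a.app U (PrinPart.dP f n F U t) = b.app U (PrinPart.dP f n F U t)) :
    a = b := by
  refine Scheme.Modules.hom_ext _ _ fun U => ?_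
  ext σ
  refine TopCat.Presheaf.section_ext ⟨G.presheaf, G.isSheaf⟩ U _ _ fun x hx => ?_
  obtain ⟨V, hV, hxV, hmem⟩ := exists_mem_span f n F U σ x hx
  show G.presheaf.germ U x hx (a.app U σ) = G.presheaf.germ U x hx (b.app U σ)
  rw [← G.presheaf.germ_res_apply (homOfLE hV) x hxV, ← G.presheaf.germ_res_apply (homOfLE hV) x hxV,
    ← Nrm6.hom_app_res, ← Nrm6.hom_app_res]
  congr 1
  suffices key : ∀ w ∈ Submodule.span Γ(X, V) (Set.range (PrinPart.dP f n F V)), a.app V w = b.app V w from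
    key _ hmem
  intro w hw
  induction hw using Submodule.span_induction with
  | mem y hy => obtain ⟨t, rfl⟩ := hy; exact h V t
  | zero => rw [map_zero, map_zero]
  | add y y' _ _ hy hy' => rw [map_add, map_add, hy, hy']
  | smul c y _ hy => rw [Scheme.Modules.Hom.app_smul, Scheme.Modules.Hom.app_smul, hy]

end Groth.Agent.PPSheaf
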