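import Groth.Agent.PPSheaf.Gr
import Mathlib.AlgebraicGeometry.Morphisms.FinitePresentation

/-!
# The graded pieces of a finitely presented closed immersion are of finite type
-/

set_option autoImplicit false

universe u

open CategoryTheory CategoryTheory.Limits AlgebraicGeometry TopologicalSpace Opposite

namespace Groth.Agent.PPSheaf

theorem isCoh_grMod {Y X : Scheme.{u}} (f : Y ⟶ X) [IsClosedImmersion f]
    [LocallyOfFinitePresentation f] (n : ℕ) : Coh.IsCoh (PrinPart.grMod f n) := by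
  choose U hU hxU using fun y : Y => (show ∃ U : X.Opens, IsAffineOpen U ∧ f y ∈ U by
    obtain ⟨_, ⟨U, hU, rfl⟩, hx, -⟩ :=
      X.isBasis_affineOpens.exists_subset_of_mem_open (Set.mem_univ (f y)) isOpen_univ
    exact ⟨U, hU, hx⟩)
  refine ⟨isQCoh_grMod f n, QCoh.isFT_of_finite (isQCoh_grMod f n) (fun y => f ⁻¹ᵁ U y)
    (top_unique fun y _ => Opens.mem_iSup.2 ⟨y, hxU y⟩) (fun y => (hU y).preimage f) fun y => ?_⟩
  let A : X.affineOpens := ⟨U y, hU y⟩
  have hfg : ((f.ker ^ n).ideal A).FG := by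
    rw [Scheme.IdealSheafData.ideal_pow]
    refine Ideal.FG.pow ?_
    rw [FComplLib.ideal_ker]
    letI := (f.app A.1).hom.toAlgebra
    have : Algebra.FinitePresentation Γ(X, A.1) Γ(Y, f ⁻¹ᵁ A.1) := by
      have h := f.finitePresentation_appLE A.2 (A.2.preimage f) le_rfl
      rwa [← Scheme.Hom.app_eq_appLE] at h
    exact Algebra.FinitePresentation.ker_fG_of_surjective (Algebra.ofId Γ(X, A.1) Γ(Y, f ⁻¹ᵁ A.1)) (f.app_surjective A.1 A.2)
  haveI : Module.Finite Γ(X, A.1) ((f.ker ^ n).ideal A) := Module.Finite.iff_fg.2 hfg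
  letI := (f.appLE A.1 (f ⁻¹ᵁ A.1) le_rfl).hom.toAlgebra
  letI : Module Γ(X, A.1) Γ(PrinPart.grMod f n, f ⁻¹ᵁ A.1) := Module.compHom _ (f.appLE A.1 (f ⁻¹ᵁ A.1) le_rfl).hom
  haveI : IsScalarTower Γ(X, A.1) Γ(Y, f ⁻¹ᵁ A.1) Γ(PrinPart.grMod f n, f ⁻¹ᵁ A.1) :=
    .of_algebraMap_smul fun _ _ => rfl
  obtain ⟨l, -, hl⟩ := exists_isBaseChange_grClass f n A (le_refl (f ⁻¹ᵁ A.1)) (A.2.preimage f)
  exact Module.Finite.equiv hl.equiv

end Groth.Agent.PPSheaf
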