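import Groth.Prelude.Def_OmegaPn
import Groth.Agent.FComplLib.IdealComap

/-!
# Functoriality and base change of infinitesimal neighbourhoods
-/

set_option autoImplicit false

universe u

open CategoryTheory CategoryTheory.Limits AlgebraicGeometry TopologicalSpace Opposite

namespace Groth.Agent.PPSheaf

variable {Y X Y' X' : Scheme.{u}} (i : Y ⟶ X) (i' : Y' ⟶ X') (v : X' ⟶ X) (w : Y' ⟶ Y)

theorem ker_comap_le (h : i' ≫ v = w ≫ i) : i.ker.comap v ≤ i'.ker := by
  rw [← Scheme.IdealSheafData.le_map_iff_comap_le, Scheme.IdealSheafData.map_ker, h]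
  exact Scheme.Hom.le_ker_comp _ _

theorem ker_pow_comap_le (h : i' ≫ v = w ≫ i) (n : ℕ) : (i.ker ^ (n + 1)).comap v ≤ i'.ker ^ (n + 1) := by
  rw [FComplLib.comap_pow]
  exact fun U => Ideal.pow_right_mono (ker_comap_le i i' v w h U) (n + 1)

/-- The map of infinitesimal neighbourhoods over `v`. -/
noncomputable def infMap (h : i' ≫ v = w ≫ i) (n : ℕ) : PrinPart.infNbhd i' n ⟶ PrinPart.infNbhd i n :=
  Scheme.IdealSheafData.inclusion (ker_pow_comap_le i i' v w h n) ≫
    ((i.ker ^ (n + 1)).comapIso v).hom ≫ pullback.snd _ _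

@[reassoc]
theorem infMap_ι (h : i' ≫ v = w ≫ i) (n : ℕ) :
    infMap i i' v w h n ≫ PrinPart.infNbhdι i n = PrinPart.infNbhdι i' n ≫ v := by
  simp [infMap, PrinPart.infNbhdι, ← pullback.condition]

theorem isPullback_infNbhd [IsClosedImmersion i] (hsq : IsPullback w i' i v) (n : ℕ)
    (k : PrinPart.infNbhd i' n ⟶ PrinPart.infNbhd i n)
    (hk : k ≫ PrinPart.infNbhdι i n = PrinPart.infNbhdι i' n ≫ v) :
    IsPullback k (PrinPart.infNbhdι i' n) (PrinPart.infNbhdι i n) v := by
  haveI : IsClosedImmersion (PrinPart.infNbhdι i n) := inferInstanceAs (IsClosedImmersion (i.ker ^ (n + 1)).subschemeι)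
  haveI : IsClosedImmersion (PrinPart.infNbhdι i' n) := inferInstanceAs (IsClosedImmersion (i'.ker ^ (n + 1)).subschemeι)
  refine (isPullback_of_isClosedImmersion _ _ k v hk.symm ?_).flip
  rw [PrinPart.infNbhdι, PrinPart.infNbhdι, Scheme.IdealSheafData.ker_subschemeι,
    Scheme.IdealSheafData.ker_subschemeι, FComplLib.comap_pow, FComplLib.ker_of_isPullback hsq.flip]

section Symm

variable {Z S : Scheme.{u}} (f : Z ⟶ S)

theorem diag_symm : pullback.diagonal f ≫ (pullbackSymmetry f f).hom = pullback.diagonal f := by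
  apply pullback.hom_ext <;> simp

theorem symm_coborder :
    (pullback.diagonal f).coborderRange ≤ (pullbackSymmetry f f).hom ⁻¹ᵁ (pullback.diagonal f).coborderRange := by
  intro p hp
  show (pullbackSymmetry f f).hom p ∈ coborder (Set.range (pullback.diagonal f))
  have he : (pullbackSymmetry f f).hom ⁻¹' Set.range (pullback.diagonal f) = Set.range (pullback.diagonal f) := by
    ext q
    constructor
    · rintro ⟨y, hy⟩
      refine ⟨y, (pullbackSymmetry f f).hom.isOpenEmbedding.injective ?_⟩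
      rw [← hy, ← Scheme.Hom.comp_apply, diag_symm]
    · rintro ⟨y, rfl⟩
      exact ⟨y, by rw [← Scheme.Hom.comp_apply, diag_symm]⟩
  have h := (pullbackSymmetry f f).hom.isOpenEmbedding.coborder_preimage (Set.range (pullback.diagonal f))
  rw [he] at h
  exact (Set.ext_iff.1 h p).1 hp

theorem exists_symmetry (n : ℕ) :
    ∃ σ : PrinPart.nbhd f n ⟶ PrinPart.nbhd f n,
      σ ≫ PrinPart.nbhdι f n = PrinPart.nbhdι f n ≫ (pullbackSymmetry f f).hom ∧
      σ ≫ σ = 𝟙 (PrinPart.nbhd f n) ∧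
      σ ≫ PrinPart.pr1 f n = PrinPart.pr2 f n ∧ σ ≫ PrinPart.pr2 f n = PrinPart.pr1 f n ∧
      PrinPart.toNbhd f n ≫ σ = PrinPart.toNbhd f n := by
  let U := (pullback.diagonal f).coborderRange
  let s := (pullbackSymmetry f f).hom
  let t := s.resLE U U (symm_coborder f)
  have ht : PrinPart.diagCl f ≫ t = 𝟙 Z ≫ PrinPart.diagCl f := by
    rw [← cancel_mono U.ι, Category.id_comp, Category.assoc, Scheme.Hom.resLE_comp_ι, ← Category.assoc]
    simp [U, s, diag_symm]
  let σ := infMap (PrinPart.diagCl f) (PrinPart.diagCl f) t (𝟙 Z) ht n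
  haveI : Mono (PrinPart.nbhdι f n) := by
    haveI : Mono (PrinPart.infNbhdι (PrinPart.diagCl f) n) :=
      inferInstanceAs (Mono ((PrinPart.diagCl f).ker ^ (n + 1)).subschemeι)
    rw [PrinPart.nbhdι]; infer_instance
  have hσ : σ ≫ PrinPart.nbhdι f n = PrinPart.nbhdι f n ≫ s := by
    rw [PrinPart.nbhdι, ← Category.assoc, infMap_ι, Category.assoc, Scheme.Hom.resLE_comp_ι, Category.assoc]
  refine ⟨σ, hσ, ?_, ?_, ?_, ?_⟩
  · rw [← cancel_mono (PrinPart.nbhdι f n), Category.assoc, hσ, ← Category.assoc, hσ, Category.assoc,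
      Category.id_comp]
    convert Category.comp_id (PrinPart.nbhdι f n) using 2
    apply pullback.hom_ext <;> simp [s]
  · rw [PrinPart.pr1, ← Category.assoc, hσ, Category.assoc, pullbackSymmetry_hom_comp_fst, PrinPart.pr2]
  · rw [PrinPart.pr2, ← Category.assoc, hσ, Category.assoc, pullbackSymmetry_hom_comp_snd, PrinPart.pr1]
  · rw [← cancel_mono (PrinPart.nbhdι f n), Category.assoc, hσ, ← Category.assoc, PrinPart.toNbhd_ι, diag_symm]

end Symm

end Groth.Agent.PPSheaf
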