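import Groth.Agent.PPSheaf.Comp
import Groth.Agent.PPSheaf.Gen
import Groth.Agent.OmegaUniv.Universal

/-!
# `P^1 = O ⊕ Ω`
-/

set_option autoImplicit false

universe u

open CategoryTheory CategoryTheory.Limits AlgebraicGeometry TopologicalSpace Opposite

namespace Groth.Agent.PPSheaf

attribute [local instance] algULift

variable {X S : Scheme.{u}} (f : X ⟶ S)

/-- A derivation as a map of abelian sheaves. -/
noncomputable def derHom {G : X.Modules} (D : OmegaSh.Der f G) :
    (Coh.structureModule X).presheaf ⟶ G.presheaf where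
  app U := AddCommGrpCat.ofHom ((D.app U.unop).comp (OmegaSh.fnSect X U.unop))
  naturality U V i := by
    ext a
    exact D.d_map i (OmegaSh.fnSect X U.unop a)

theorem isDiffOpLE_derHom {G : X.Modules} (D : OmegaSh.Der f G) :
    PrinPart.IsDiffOpLE f (Coh.structureModule X) G 1 (derHom f D) := by
  refine isDiffOpLE_of_alt f 1 _ (fun V s U hU t => ?_) ?_
  · show D.app U (_ * OmegaSh.fnSect X U t) = _ • D.app U (OmegaSh.fnSect X U t)
    refine (D.d_mul (X := op U) _ _).trans ?_
    have h0 : D.app U (X.presheaf.map (homOfLE hU).op (f.app V s)) = 0 := by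
      refine (D.d_map (homOfLE hU).op _).trans ?_
      rw [show D.d (f.app V s) = 0 from D.d_app s]
      exact map_zero (G.presheaf.map (homOfLE hU).op).hom
    exact (congrArg _ (show OmegaSh.fnSect X U t • D.app U _ = 0 by rw [h0, smul_zero])).trans (add_zero _)
  · rw [altVanishes_iff]
    intro U a
    refine DiffOps.isDiffOpLE_zero_iff.2 fun b => ?_
    refine LinearMap.ext fun (t : Γ(X, U)) => ?_
    simp only [DiffOps.commutator_apply, LinearMap.zero_apply]
    have hm : ∀ x y : Γ(X, U), (zLin ((derHom f D).app (op U)).hom) (x • (show Γ(Coh.structureModule X, U) from y)) =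
        x • D.app U y + y • D.app U x := fun x y => D.d_mul (X := op U) x y
    have hc : ∀ y : Γ(X, U), (zLin ((derHom f D).app (op U)).hom) (show Γ(Coh.structureModule X, U) from y) = D.app U y :=
      fun _ => rfl
    show zLin ((derHom f D).app (op U)).hom (a • (show Γ(Coh.structureModule X, U) from b * t)) -
        a • zLin ((derHom f D).app (op U)).hom (show Γ(Coh.structureModule X, U) from b * t) -
        b • (zLin ((derHom f D).app (op U)).hom (a • (show Γ(Coh.structureModule X, U) from t)) -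
          a • zLin ((derHom f D).app (op U)).hom (show Γ(Coh.structureModule X, U) from t)) = 0
    rw [hm, hm, hc, hc, add_sub_cancel_left, add_sub_cancel_left, smul_smul, sub_self]

theorem isDiffOpLE_idHom : PrinPart.IsDiffOpLE f (Coh.structureModule X) (Coh.structureModule X) 1
    (𝟙 (Coh.structureModule X).presheaf) := by
  refine isDiffOpLE_of_alt f 1 _ (fun V s U hU t => rfl) ?_
  rw [altVanishes_iff]
  intro U a
  refine DiffOps.isDiffOpLE_zero_iff.2 fun b => ?_
  refine LinearMap.ext fun t => ?_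
  simp only [DiffOps.commutator_apply, LinearMap.zero_apply]
  show (a • (b • t) - a • (b • t)) - b • (a • t - a • t) = (0 : Γ(Coh.structureModule X, U))
  rw [sub_self, sub_self, smul_zero, sub_zero]

theorem hom_ext_dOmega [QuasiSeparated f] {G : X.Modules} {a b : Omega.sheaf f ⟶ G}
    (h : ∀ (U : X.Opens) (s : Γ(X, U)), a.app U ((OmegaSh.dOmega f).app U s) = b.app U ((OmegaSh.dOmega f).app U s)) :
    a = b := by
  obtain ⟨_, -, hu⟩ := OmegaUniv.isUniversal_dOmega f G ((OmegaSh.dOmega f).postcomp b.val)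
  refine (hu a ?_).trans (hu b rfl).symm
  ext U s
  exact h U.unop s

theorem isIso_coprod_desc [QuasiSeparated f]
    (e : Coh.structureModule X ⟶ PrinPart.P f 1)
    (he : ∀ (U : X.Opens) (s : Γ(X, U)), e.app U (OmegaSh.strSect X U s) = s • PrinPart.dn f 1 U 1)
    (ι : Omega.sheaf f ⟶ PrinPart.P f 1)
    (hι : ∀ (U : X.Opens) (s : Γ(X, U)),
      ι.app U ((OmegaSh.dOmega f).app U s) = PrinPart.dn f 1 U s - s • PrinPart.dn f 1 U 1) :
    IsIso (coprod.desc e ι) := by
  obtain ⟨u₁, hu₁⟩ := isDiffOpLE_idHom f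
  obtain ⟨u₂, hu₂⟩ := isDiffOpLE_derHom f (OmegaSh.dOmega f)
  have h1 : ∀ (U : X.Opens) (s : Γ(X, U)), u₁.app U (PrinPart.dn f 1 U s) = OmegaSh.strSect X U s :=
    fun U s => (hu₁ U (OmegaSh.strSect X U s)).symm
  have h2 : ∀ (U : X.Opens) (s : Γ(X, U)), u₂.app U (PrinPart.dn f 1 U s) = (OmegaSh.dOmega f).app U s :=
    fun U s => (hu₂ U (OmegaSh.strSect X U s)).symm
  have hone : ∀ U : X.Opens, (OmegaSh.dOmega f).app U 1 = 0 :=
    fun U => PresheafOfModules.Derivation.d_one (OmegaSh.dOmega f) (op U)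
  have hee : e ≫ u₁ = 𝟙 _ := by
    refine Scheme.Modules.hom_ext _ _ fun U => ?_
    ext (s : Γ(X, U))
    show u₁.app U (e.app U (OmegaSh.strSect X U s)) = OmegaSh.strSect X U s
    rw [he, Scheme.Modules.Hom.app_smul, h1, ← OmegaSh.strSect_mul, mul_one]
  have hei : e ≫ u₂ = 0 := by
    refine Scheme.Modules.hom_ext _ _ fun U => ?_
    ext (s : Γ(X, U))
    show u₂.app U (e.app U (OmegaSh.strSect X U s)) = 0
    rw [he, Scheme.Modules.Hom.app_smul, h2, hone, smul_zero]
  have hie : ι ≫ u₁ = 0 := hom_ext_dOmega f fun U s => by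
    show u₁.app U (ι.app U _) = 0
    rw [hι, map_sub, Scheme.Modules.Hom.app_smul, h1, h1, ← OmegaSh.strSect_mul, mul_one, sub_self]
  have hii : ι ≫ u₂ = 𝟙 _ := hom_ext_dOmega f fun U s => by
    show u₂.app U (ι.app U _) = (OmegaSh.dOmega f).app U s
    rw [hι, map_sub, Scheme.Modules.Hom.app_smul, h2, h2, hone, smul_zero, sub_zero]
  refine ⟨u₁ ≫ coprod.inl + u₂ ≫ coprod.inr, ?_, ?_⟩
  · apply coprod.hom_ext
    · rw [coprod.inl_desc_assoc, Preadditive.comp_add, ← Category.assoc, ← Category.assoc, hee, hei]; simp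
    · rw [coprod.inr_desc_assoc, Preadditive.comp_add, ← Category.assoc, ← Category.assoc, hie, hii]; simp
  · rw [Preadditive.add_comp, Category.assoc, Category.assoc, coprod.inl_desc, coprod.inr_desc]
    refine hom_ext_dP f 1 _ _ fun U t => ?_
    show e.app U (u₁.app U (PrinPart.dn f 1 U (OmegaSh.fnSect X U t))) +
      ι.app U (u₂.app U (PrinPart.dn f 1 U (OmegaSh.fnSect X U t))) = _
    rw [h1, h2, he, hι, add_sub_cancel]
    rfl

end Groth.Agent.PPSheaf
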