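import Mathlib.RingTheory.Kaehler.Basic
import Mathlib.RingTheory.IsTensorProduct

/-!
# Base change of the rings of principal parts
-/

set_option autoImplicit false

universe u

open scoped TensorProduct

namespace Groth.Agent.PPSheaf

theorem exists_baseChange_nilThick (A B A' B' : Type u) [CommRing A] [CommRing B] [CommRing A'] [CommRing B']
    [Algebra A B] [Algebra A A'] [Algebra A' B'] [Algebra B B'] [Algebra A B'] [IsScalarTower A A' B']
    [IsScalarTower A B B'] [Algebra.IsPushout A A' B B'] (n : ℕ)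
    (R R' : Type u) [CommRing R] [CommRing R'] [Algebra B R] [Algebra B' R']
    (ψ : B ⊗[A] B →+* R) (hψ : Function.Surjective ψ)
    (hk : RingHom.ker ψ = KaehlerDifferential.ideal A B ^ (n + 1))
    (hl : ∀ b, ψ (b ⊗ₜ 1) = algebraMap B R b)
    (ψ' : B' ⊗[A'] B' →+* R') (hψ' : Function.Surjective ψ')
    (hk' : RingHom.ker ψ' = KaehlerDifferential.ideal A' B' ^ (n + 1))
    (hl' : ∀ b, ψ' (b ⊗ₜ 1) = algebraMap B' R' b) :
    ∃ γ : B' ⊗[B] R →+* R', Function.Bijective γ ∧
      ∀ (b' : B') (b c : B), γ (b' ⊗ₜ ψ (b ⊗ₜ c)) =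
        algebraMap B' R' b' * ψ' (algebraMap B B' b ⊗ₜ algebraMap B B' c) := by
  let T := B' ⊗[B] R
  let eL : B' →+* B' ⊗[A'] B' := Algebra.TensorProduct.includeLeftRingHom
  let eR : B' →+* B' ⊗[A'] B' := (Algebra.TensorProduct.includeRight : B' →ₐ[A'] B' ⊗[A'] B').toRingHom
  -- the map on the tensor squares
  let l : B →ₐ[A] B' ⊗[A'] B' :=
    { toRingHom := eL.comp (algebraMap B B')
      commutes' := fun a => by
        show (algebraMap B B' (algebraMap A B a)) ⊗ₜ[A'] (1 : B') = (algebraMap A B' a) ⊗ₜ[A'] (1 : B')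
        rw [← IsScalarTower.algebraMap_apply] }
  let r : B →ₐ[A] B' ⊗[A'] B' :=
    { toRingHom := eR.comp (algebraMap B B')
      commutes' := fun a => by
        show (1 : B') ⊗ₜ[A'] (algebraMap B B' (algebraMap A B a)) = (algebraMap A B' a) ⊗ₜ[A'] (1 : B')
        rw [← IsScalarTower.algebraMap_apply, IsScalarTower.algebraMap_apply A A' B', Algebra.algebraMap_eq_smul_one (A := B'),
          TensorProduct.tmul_smul, TensorProduct.smul_tmul', ← Algebra.algebraMap_eq_smul_one] }
  let sq : B ⊗[A] B →+* B' ⊗[A'] B' := (Algebra.TensorProduct.lift l r fun _ _ => Commute.all _ _).toRingHom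
  have hsq : ∀ b c, sq (b ⊗ₜ c) = algebraMap B B' b ⊗ₜ algebraMap B B' c := fun b c => by
    show Algebra.TensorProduct.lift l r _ (b ⊗ₜ c) = _
    rw [Algebra.TensorProduct.lift_tmul]
    show ((algebraMap B B' b) ⊗ₜ[A'] (1 : B')) * ((1 : B') ⊗ₜ[A'] algebraMap B B' c) = _
    rw [Algebra.TensorProduct.tmul_mul_tmul, mul_one, one_mul]
  have hI : (KaehlerDifferential.ideal A B).map sq ≤ KaehlerDifferential.ideal A' B' := by
    rw [← KaehlerDifferential.span_range_eq_ideal, Ideal.map_span, Ideal.span_le]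
    rintro _ ⟨_, ⟨s, rfl⟩, rfl⟩
    rw [map_sub, hsq, hsq, map_one]
    exact KaehlerDifferential.one_smul_sub_smul_one_mem_ideal A' _
  obtain ⟨α, hα⟩ : ∃ α : R →+* R', ∀ t, α (ψ t) = ψ' (sq t) := by
    refine ⟨RingHom.liftOfSurjective ψ hψ ⟨ψ'.comp sq, ?_⟩, fun t => RingHom.liftOfSurjective_comp_apply _ _ _ t⟩
    intro t ht
    rw [hk] at ht
    rw [RingHom.mem_ker, RingHom.comp_apply, ← RingHom.mem_ker, hk']
    exact Ideal.pow_right_mono hI _ ((Ideal.map_pow sq _ _).le (Ideal.mem_map_of_mem sq ht))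
  have hαb : ∀ b, α (algebraMap B R b) = algebraMap B' R' (algebraMap B B' b) := fun b => by
    rw [← hl, hα, hsq, map_one, hl']
  letI : Algebra B R' := ((algebraMap B' R').comp (algebraMap B B')).toAlgebra
  let α' : R →ₐ[B] R' := { toRingHom := α, commutes' := hαb }
  let i' : B' →ₐ[B] R' := { toRingHom := algebraMap B' R', commutes' := fun _ => rfl }
  let γ : T →+* R' := (Algebra.TensorProduct.lift i' α' fun _ _ => Commute.all _ _).toRingHom
  have hγ : ∀ b' x, γ (b' ⊗ₜ x) = algebraMap B' R' b' * α x := fun b' x =>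
    Algebra.TensorProduct.lift_tmul i' α' (fun _ _ => Commute.all _ _) b' x
  refine ⟨γ, ?_, fun b' b c => by rw [hγ, hα, hsq]⟩
  -- the inverse
  let tL : B' →+* T := Algebra.TensorProduct.includeLeftRingHom
  let c : B ⊗[A] B →+* T := (Algebra.TensorProduct.includeRight : R →ₐ[B] T).toRingHom.comp ψ
  have hA : ∀ a, c (1 ⊗ₜ algebraMap A B a) = tL (algebraMap A' B' (algebraMap A A' a)) := fun a => by
    show (1 : B') ⊗ₜ[B] ψ (1 ⊗ₜ algebraMap A B a) = (algebraMap A' B' (algebraMap A A' a)) ⊗ₜ[B] (1 : R)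
    rw [Algebra.algebraMap_eq_smul_one (A := B), TensorProduct.tmul_smul, TensorProduct.smul_tmul',
      ← Algebra.algebraMap_eq_smul_one, hl, Algebra.algebraMap_eq_smul_one, TensorProduct.tmul_smul,
      TensorProduct.smul_tmul', ← Algebra.algebraMap_eq_smul_one, ← IsScalarTower.algebraMap_apply,
      IsScalarTower.algebraMap_apply A A' B']
  have hAT : ∀ a, algebraMap A T a = tL (algebraMap A' B' (algebraMap A A' a)) := fun a => by
    show (algebraMap A B' a) ⊗ₜ[B] (1 : R) = (algebraMap A' B' (algebraMap A A' a)) ⊗ₜ[B] (1 : R)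
    rw [← IsScalarTower.algebraMap_apply]
  let fA : A' →ₐ[A] T := { toRingHom := tL.comp (algebraMap A' B'), commutes' := fun a => (hAT a).symm }
  let gB : B →ₐ[A] T :=
    { toRingHom := c.comp (Algebra.TensorProduct.includeRight : B →ₐ[A] B ⊗[A] B).toRingHom
      commutes' := fun a => (hA a).trans (hAT a).symm }
  let ρ : B' →ₐ[A] T := Algebra.pushoutDesc B' fA gB fun _ _ => mul_comm _ _
  have hρA : ∀ a', ρ (algebraMap A' B' a') = tL (algebraMap A' B' a') := fun a' =>
    Algebra.pushoutDesc_left B' fA gB _ a'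
  have hρB : ∀ b, ρ (algebraMap B B' b) = c (1 ⊗ₜ b) := fun b => Algebra.pushoutDesc_right B' fA gB _ b
  let tL' : B' →ₐ[A'] T := { toRingHom := tL, commutes' := fun _ => rfl }
  let ρ' : B' →ₐ[A'] T := { toRingHom := ρ.toRingHom, commutes' := hρA }
  let β : B' ⊗[A'] B' →+* T := (Algebra.TensorProduct.lift tL' ρ' fun _ _ => Commute.all _ _).toRingHom
  have hβ : ∀ x y, β (x ⊗ₜ y) = tL x * ρ y := fun x y =>
    Algebra.TensorProduct.lift_tmul tL' ρ' (fun _ _ => Commute.all _ _) x y
  let J := (KaehlerDifferential.ideal A B).map c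
  have hJ : J ^ (n + 1) ≤ ⊥ := by
    rw [← Ideal.map_pow, ← hk, Ideal.map_le_iff_le_comap]
    intro t ht
    show (1 : B') ⊗ₜ[B] ψ t = 0
    rw [RingHom.mem_ker.1 ht, TensorProduct.tmul_zero]
  have hmod : ∀ b', ρ b' - tL b' ∈ J := by
    letI : Algebra A (T ⧸ J) := ((Ideal.Quotient.mk J).comp (algebraMap A T)).toAlgebra
    let q₁ : B' →ₐ[A] T ⧸ J :=
      { toRingHom := (Ideal.Quotient.mk J).comp ρ.toRingHom
        commutes' := fun a => congrArg (Ideal.Quotient.mk J) (ρ.commutes a) }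
    let q₂ : B' →ₐ[A] T ⧸ J :=
      { toRingHom := (Ideal.Quotient.mk J).comp tL
        commutes' := fun a => (congrArg (fun x => Ideal.Quotient.mk J (tL x)) (IsScalarTower.algebraMap_apply A A' B' a)).trans (congrArg (Ideal.Quotient.mk J) (hAT a).symm) }
    have h12 : q₁ = q₂ := by
      refine Algebra.IsPushout.algHom_ext B' (R := A) (S := A') (R' := B) (AlgHom.ext fun b => ?_) (AlgHom.ext fun a' => ?_)
      · show Ideal.Quotient.mk J (ρ (algebraMap B B' b)) = Ideal.Quotient.mk J (tL (algebraMap B B' b))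
        rw [hρB, Ideal.Quotient.eq, show tL (algebraMap B B' b) = c (b ⊗ₜ 1) by
          show (algebraMap B B' b) ⊗ₜ[B] (1 : R) = (1 : B') ⊗ₜ[B] ψ (b ⊗ₜ 1)
          rw [hl, Algebra.algebraMap_eq_smul_one b, TensorProduct.smul_tmul, ← Algebra.algebraMap_eq_smul_one],
          ← map_sub]
        exact Ideal.mem_map_of_mem c (KaehlerDifferential.one_smul_sub_smul_one_mem_ideal A b)
      · exact congrArg (Ideal.Quotient.mk J) (hρA a')
    exact fun b' => Ideal.Quotient.eq.1 (AlgHom.congr_fun h12 b')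
  have hβI : (KaehlerDifferential.ideal A' B').map β ≤ J := by
    rw [← KaehlerDifferential.span_range_eq_ideal, Ideal.map_span, Ideal.span_le]
    rintro _ ⟨_, ⟨s, rfl⟩, rfl⟩
    rw [map_sub, hβ, hβ, map_one tL, one_mul, map_one ρ, mul_one]
    exact hmod s
  obtain ⟨β', hβ'⟩ : ∃ β' : R' →+* T, ∀ t, β' (ψ' t) = β t := by
    refine ⟨RingHom.liftOfSurjective ψ' hψ' ⟨β, ?_⟩, fun t => RingHom.liftOfSurjective_comp_apply _ _ _ t⟩
    intro t ht
    rw [hk'] at ht
    exact (Submodule.mem_bot _).1 (hJ (Ideal.pow_right_mono hβI _ ((Ideal.map_pow β _ _).le (Ideal.mem_map_of_mem β ht))))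
  have h1 : ∀ y, β' (γ y) = y := by
    intro y
    induction y using TensorProduct.induction_on with
    | zero => rw [map_zero, map_zero]
    | add a b ha hb => rw [map_add, map_add, ha, hb]
    | tmul b' x =>
      obtain ⟨t, rfl⟩ := hψ x
      induction t with
      | zero => simp
      | add a b ha hb => rw [map_add, TensorProduct.tmul_add, map_add, map_add, ha, hb]
      | tmul p q =>
        rw [hγ, hα, hsq, ← hl', map_mul, hβ', hβ', hβ, hβ, map_one ρ, mul_one, hρB]
        show (b' ⊗ₜ[B] (1 : R)) * ((algebraMap B B' p ⊗ₜ[B] (1 : R)) * ((1 : B') ⊗ₜ[B] ψ (1 ⊗ₜ q))) = b' ⊗ₜ[B] ψ (p ⊗ₜ q)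
        rw [Algebra.TensorProduct.tmul_mul_tmul, Algebra.TensorProduct.tmul_mul_tmul, mul_one, one_mul, one_mul,
          mul_comm b', ← Algebra.smul_def, TensorProduct.smul_tmul, Algebra.smul_def, ← hl, ← map_mul,
          Algebra.TensorProduct.tmul_mul_tmul, mul_one, one_mul]
  have hγρ : ∀ b', γ (ρ b') = ψ' (1 ⊗ₜ b') := by
    letI : Algebra A R' := ((algebraMap B' R').comp (algebraMap A B')).toAlgebra
    have hTA : ∀ a, γ (algebraMap A T a) = algebraMap A R' a := fun a => by
      show γ (algebraMap A T a) = algebraMap B' R' (algebraMap A B' a)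
      rw [hAT]
      show γ ((algebraMap A' B' (algebraMap A A' a)) ⊗ₜ[B] (1 : R)) = _
      rw [hγ, map_one, mul_one, ← IsScalarTower.algebraMap_apply A A' B']
    let q₁ : B' →ₐ[A] R' :=
      { toRingHom := γ.comp ρ.toRingHom
        commutes' := fun a => (congrArg γ (ρ.commutes a)).trans (hTA a) }
    let q₂ : B' →ₐ[A] R' :=
      { toRingHom := ψ'.comp eR
        commutes' := fun a => by
          show ψ' (1 ⊗ₜ algebraMap A B' a) = algebraMap B' R' (algebraMap A B' a)
          rw [← hl', IsScalarTower.algebraMap_apply A A' B', Algebra.algebraMap_eq_smul_one (A := B'),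
            TensorProduct.tmul_smul, TensorProduct.smul_tmul', ← Algebra.algebraMap_eq_smul_one] }
    have h12 : q₁ = q₂ := by
      refine Algebra.IsPushout.algHom_ext B' (R := A) (S := A') (R' := B) (AlgHom.ext fun b => ?_) (AlgHom.ext fun a' => ?_)
      · show γ (ρ (algebraMap B B' b)) = ψ' (1 ⊗ₜ algebraMap B B' b)
        rw [hρB]
        show γ ((1 : B') ⊗ₜ[B] ψ (1 ⊗ₜ b)) = _
        rw [hγ, hα, hsq, map_one, map_one, one_mul]
      · show γ (ρ (algebraMap A' B' a')) = ψ' (1 ⊗ₜ algebraMap A' B' a')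
        rw [hρA]
        show γ ((algebraMap A' B' a') ⊗ₜ[B] (1 : R)) = _
        rw [hγ, map_one, mul_one, ← hl', Algebra.algebraMap_eq_smul_one (A := B'),
          TensorProduct.tmul_smul, TensorProduct.smul_tmul']
    exact fun b' => AlgHom.congr_fun h12 b'
  have h2 : ∀ y, γ (β' y) = y := by
    intro y
    obtain ⟨t, rfl⟩ := hψ' y
    rw [hβ']
    induction t with
    | zero => rw [map_zero, map_zero, map_zero]
    | add a b ha hb => rw [map_add, map_add, map_add, ha, hb]
    | tmul p q =>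
      rw [hβ, map_mul, hγρ, show γ (tL p) = ψ' (p ⊗ₜ 1) by
        show γ (p ⊗ₜ[B] (1 : R)) = _
        rw [hγ, map_one, mul_one, hl'], ← map_mul, Algebra.TensorProduct.tmul_mul_tmul, mul_one, one_mul]
  exact ⟨fun a b h => by rw [← h1 a, h, h1], fun y => ⟨β' y, h2 y⟩⟩

end Groth.Agent.PPSheaf
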