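import Groth.Prelude.Def_OmegaPn
import Mathlib.AlgebraicGeometry.Morphisms.Finite

/-!
# Infinitesimal neighbourhoods of a section are finite
-/

set_option autoImplicit false

universe u

open CategoryTheory CategoryTheory.Limits AlgebraicGeometry TopologicalSpace Opposite

namespace Groth.Agent.PPSheaf

theorem isFinite_infNbhd_section {X Y : Scheme.{u}} (g : X ⟶ Y) [LocallyOfFiniteType g] (f : Y ⟶ X)
    [IsClosedImmersion f] (hf : f ≫ g = 𝟙 Y) (n : ℕ) :
    IsFinite (PrinPart.infNbhdι f n ≫ g) := by
  let h := PrinPart.infNbhdι f n ≫ g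
  let t := PrinPart.toInfNbhd f n
  have hth : t ≫ h = 𝟙 Y := by simp [t, h, hf]
  have ht : Function.Surjective t := PrinPart.toInfNbhd_surjective f n
  haveI : Surjective t := ⟨ht⟩
  haveI : UniversallyClosed (t ≫ h) := by rw [hth]; infer_instance
  haveI : UniversallyClosed h := UniversallyClosed.of_comp_surjective t h
  have hl : ∀ y, h (t y) = y := fun y => by rw [← Scheme.Hom.comp_apply, hth]; rfl
  let e : PrinPart.infNbhd f n ≃ₜ Y :=
    { toFun := h, invFun := t
      left_inv := fun z => by obtain ⟨y, rfl⟩ := ht z; rw [hl]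
      right_inv := hl
      continuous_toFun := h.continuous
      continuous_invFun := t.continuous }
  haveI : IsAffineHom h := isAffineHom_of_isInducing h e.isInducing (by
    rw [show Set.range h = Set.univ from e.surjective.range_eq]; exact isClosed_univ)
  haveI : IsIntegralHom h := IsIntegralHom.iff_universallyClosed_and_isAffineHom.2 ⟨inferInstance, inferInstance⟩
  haveI : IsClosedImmersion (PrinPart.infNbhdι f n) :=
    inferInstanceAs (IsClosedImmersion (f.ker ^ (n + 1)).subschemeι)
  exact (IsFinite.iff_isIntegralHom_and_locallyOfFiniteType h).2 ⟨inferInstance, inferInstance⟩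

end Groth.Agent.PPSheaf
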